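import Groth.Agent.DefGlueLib.Schless

/-! Automorphisms of a deformation, read on the sections over the affine pieces. -/

universe u

open CategoryTheory CategoryTheory.Limits AlgebraicGeometry Opposite ArtFun

noncomputable section

namespace Groth.Agent.DefSch76

open Scheme (AffineZariskiSite)
open Groth.Agent.DefGlueLib

variable {Λ k : Type u} [CommRing Λ] [Field k] [Algebra Λ k]
variable {X : Scheme.{u}} {x : X ⟶ Art.specPt k} {C : Art Λ k} {ξ : DefSch X x C}

/-- the ring map over an affine piece induced by an automorphism -/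
abbrev phi (e : ξ.Iso ξ) (U : AffineZariskiSite X) :
    (ofSch ξ).R.obj (op U) ⟶ (ofSch ξ).R.obj (op U) :=
  (Ov.ofIso e).sec.app.app (op U)

theorem SpecMap_phi (e : ξ.Iso ξ) (U : AffineZariskiSite X) :
    Spec.map (phi e U) ≫ (isAffineOpen_imOpen ξ U).fromSpec =
      (isAffineOpen_imOpen ξ U).fromSpec ≫ e.iso.hom :=
  IsAffineOpen.SpecMap_appLE_fromSpec e.iso.hom _ _ _

theorem phi_eq (e : ξ.Iso ξ) (U : AffineZariskiSite X) (ψ : (ofSch ξ).R.obj (op U) ⟶ (ofSch ξ).R.obj (op U))
    (h : Spec.map ψ ≫ (isAffineOpen_imOpen ξ U).fromSpec = (isAffineOpen_imOpen ξ U).fromSpec ≫ e.iso.hom) :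
    phi e U = ψ := by
  apply Spec.map_injective
  exact (cancel_mono (isAffineOpen_imOpen ξ U).fromSpec).1 ((SpecMap_phi e U).trans h.symm)

theorem phi_eq_id (e : ξ.Iso ξ) (h : e.iso.hom = 𝟙 ξ.total) (U : AffineZariskiSite X) : phi e U = 𝟙 _ :=
  phi_eq e U _ (by rw [h, Category.comp_id]; exact (congrArg (· ≫ _) (Spec.map_id _)).trans (Category.id_comp _))

set_option backward.isDefEq.respectTransparency false in
set_option backward.isDefEq.respectTransparency.types false in
theorem phi_trans (e e' : ξ.Iso ξ) (U : AffineZariskiSite X) :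
    phi (e.trans e') U = phi e' U ≫ phi e U := by
  refine phi_eq _ U _ ?_
  rw [Spec.map_comp, Category.assoc, SpecMap_phi, ← Category.assoc, SpecMap_phi, Category.assoc]
  rfl

theorem hom_ext_of_fromSpec {T : Scheme.{u}} (f g : ξ.total ⟶ T)
    (h : ∀ U : AffineZariskiSite X, (isAffineOpen_imOpen ξ U).fromSpec ≫ f =
      (isAffineOpen_imOpen ξ U).fromSpec ≫ g) : f = g := by
  rw [← cancel_epi (counit ξ).iso.hom]
  refine colimit.hom_ext fun U => ?_
  exact ((Category.assoc _ _ _).symm.trans ((congrArg (· ≫ f) (ι_counit ξ U)).trans (h U))).trans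
    ((Category.assoc _ _ _).symm.trans (congrArg (· ≫ g) (ι_counit ξ U))).symm

/-- An automorphism is determined by its maps on the affine pieces. -/
theorem hom_eq_of_phi_eq {e e' : ξ.Iso ξ} (h : ∀ U, phi e U = phi e' U) : e.iso.hom = e'.iso.hom :=
  hom_ext_of_fromSpec _ _ fun U => by rw [← SpecMap_phi, ← SpecMap_phi, h]

theorem eq_id_of_phi {e : ξ.Iso ξ} (h : ∀ U, phi e U = 𝟙 _) : e.iso.hom = 𝟙 ξ.total :=
  hom_eq_of_phi_eq (e' := DefSch.Iso.refl ξ) fun U => (h U).trans (phi_eq_id (DefSch.Iso.refl ξ) rfl U).symm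

/-- An endomorphism of the sections gives an automorphism of the deformation. -/
def autOfPHom (φ : PHom (𝟙 C) (ofSch ξ) (ofSch ξ)) : ξ.Iso ξ :=
  (counit ξ).symm.trans ((Ov.toIso φ.glue).trans (counit ξ))

set_option backward.isDefEq.respectTransparency false in
set_option backward.isDefEq.respectTransparency.types false in
theorem phi_autOfPHom (φ : PHom (𝟙 C) (ofSch ξ) (ofSch ξ)) (U : AffineZariskiSite X) :
    phi (autOfPHom φ) U = φ.app.app (op U) := by
  refine phi_eq _ U _ ?_
  have h1 : (isAffineOpen_imOpen ξ U).fromSpec ≫ (counit ξ).iso.inv = colimit.ι (ofSch ξ).diagram U := by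
    rw [Iso.comp_inv_eq]; exact (ι_counit ξ U).symm
  change _ = (isAffineOpen_imOpen ξ U).fromSpec ≫ (counit ξ).iso.inv ≫ φ.glue.hom ≫ (counit ξ).iso.hom
  rw [← Category.assoc, h1, ← Category.assoc]
  refine Eq.trans ?_ (congrArg (· ≫ (counit ξ).iso.hom) (PHom.ι_glue φ U)).symm
  refine Eq.trans ?_ (Category.assoc _ _ _).symm
  exact congrArg (Spec.map (φ.app.app (op U)) ≫ ·) (ι_counit ξ U).symm

/-- the sectionwise properties of the map induced by an automorphism -/
theorem phi_spec (e : ξ.Iso ξ) (U : AffineZariskiSite X) :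
    (∀ c : C, phi e U ((ofSch ξ).a (op U) c) = (ofSch ξ).a (op U) c) ∧
      ∀ r, (ofSch ξ).qU U (phi e U r) = (ofSch ξ).qU U r :=
  ⟨fun c => (Ov.ofIso e).sec.comm (op U) c,
    fun r => ConcreteCategory.congr_hom (congrArg (fun t => NatTrans.app t (op U)) (Ov.ofIso e).sec.q_app) r⟩

theorem phi_natural (e : ξ.Iso ξ) {V U : AffineZariskiSite X} (h : V ⟶ U) (r : (ofSch ξ).R.obj (op U)) :
    phi e V ((ofSch ξ).R.map h.op r) = (ofSch ξ).R.map h.op (phi e U r) :=
  ConcreteCategory.congr_hom ((Ov.ofIso e).sec.app.naturality h.op) r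

end Groth.Agent.DefSch76
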