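import Groth.Agent.DefSch76.DerSheaf
import Groth.Agent.QCoh.AffineCohom
import Groth.Agent.QCoh.VanIdeal

/-! Cocycles of derivations of the structure sheaf for an open covering. -/

universe u

set_option backward.isDefEq.respectTransparency false
set_option backward.isDefEq.respectTransparency.types false

open CategoryTheory CategoryTheory.Limits AlgebraicGeometry TopologicalSpace Opposite ArtFun

noncomputable section

namespace Groth.Agent.DefSch76

open Scheme (AffineZariskiSite)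

variable {k : Type u} [Field k] {X : Scheme.{u}} (x : X ⟶ Art.specPt k)

/-- the constants as functions on an open -/
def cst (W : X.Opens) : k →+* Γ(X, W) :=
  ((Scheme.ΓSpecIso (CommRingCat.of k)).inv ≫ x.appLE ⊤ W le_top).hom

theorem res_cst {W' W : X.Opens} (h : W' ≤ W) (c : k) : res h (cst x W c) = cst x W' c := by
  refine DFunLike.congr_fun (f := (X.presheaf.map (homOfLE h).op).hom.comp (cst x W)) ?_ c
  rw [cst, ← CommRingCat.hom_comp, Category.assoc]
  exact congrArg (fun g => ((Scheme.ΓSpecIso (CommRingCat.of k)).inv ≫ g).hom) (Scheme.Hom.appLE_map x _ _)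

theorem cst_eq_str (U : AffineZariskiSite X) (c : k) : cst x U.toOpens c = DefGlueLib.str x U c := rfl

theorem res_self {W : X.Opens} (h : W ≤ W) (s : Γ(X, W)) : res h s = s := by
  change (X.presheaf.map (homOfLE h).op).hom s = s
  rw [Subsingleton.elim (homOfLE h) (𝟙 W), op_id, X.presheaf.map_id]
  rfl

variable {ι : Type u} (U : ι → X.Opens)

/-- a `k`-derivation valued cocycle for `U` (one for each element of `κ`) -/
structure Coc (κ : Type u) : Type u where
  δ : ∀ (_ : κ) (i j : ι) (W : X.Opens), W ≤ U i → W ≤ U j → (Γ(X, W) →+ Γ(X, W))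
  mul : ∀ l i j W hi hj s t, δ l i j W hi hj (s * t) = s * δ l i j W hi hj t + t * δ l i j W hi hj s
  const : ∀ l i j W hi hj c, δ l i j W hi hj (cst x W c) = 0
  natural : ∀ l i j {W' W : X.Opens} (h : W' ≤ W) hi hj s,
    δ l i j W' (h.trans hi) (h.trans hj) (res h s) = res h (δ l i j W hi hj s)
  cocycle : ∀ l i j m W hi hj hm s,
    δ l i j W hi hj s + δ l j m W hj hm s = δ l i m W hi hm s

variable {x} {U}

namespace Coc

variable {κ : Type u} (c : Coc x U κ)

theorem δ_one (l : κ) (i j : ι) (W : X.Opens) (hi hj) : c.δ l i j W hi hj 1 = 0 := by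
  simpa using c.mul l i j W hi hj 1 1

theorem δ_self (l : κ) (i : ι) (W : X.Opens) (hi hi') (s : Γ(X, W)) : c.δ l i i W hi hi' s = 0 := by
  simpa using c.cocycle l i i i W hi hi hi s

end Coc

theorem eq_of_res_cover {V : X.Opens} {α : Type u} (W : α → X.Opens) (hle : ∀ a, W a ≤ V)
    (hcov : V ≤ ⨆ a, W a) (s t : Γ(X, V)) (h : ∀ a, res (hle a) s = res (hle a) t) : s = t :=
  X.sheaf.eq_of_locally_eq' W V (fun a => homOfLE (hle a)) hcov s t h

theorem exists_glue {V : X.Opens} {α : Type u} (W : α → X.Opens) (hle : ∀ a, W a ≤ V)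
    (hcov : V ≤ ⨆ a, W a) (s : ∀ a, Γ(X, W a))
    (h : ∀ a b, res (inf_le_left : W a ⊓ W b ≤ W a) (s a) = res inf_le_right (s b)) :
    ∃ t : Γ(X, V), ∀ a, res (hle a) t = s a := by
  obtain ⟨t, ht, -⟩ := X.sheaf.existsUnique_gluing' W V (fun a => homOfLE (hle a)) hcov s h
  exact ⟨t, ht⟩

/-- On an affine open, cocycles of functions for the induced covering split. -/
theorem exists_split {V : X.Opens} (hV : IsAffineOpen V) (hcov : ⨆ i, U i = ⊤)
    (c : ∀ (i j : ι) (W : X.Opens), W ≤ V → W ≤ U i → W ≤ U j → Γ(X, W))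
    (hnat : ∀ i j (W' W : X.Opens) (h : W' ≤ W) (hV' hi hj),
      c i j W' (h.trans hV') (h.trans hi) (h.trans hj) = res h (c i j W hV' hi hj))
    (hc : ∀ i j m W hV' hi hj hm, c i j W hV' hi hj + c j m W hV' hj hm = c i m W hV' hi hm) :
    ∃ t : ∀ i, Γ(X, V ⊓ U i), ∀ i j (W : X.Opens) (hV' : W ≤ V) (hi : W ≤ U i) (hj : W ≤ U j),
      res (le_inf hV' hj) (t j) - res (le_inf hV' hi) (t i) = c i j W hV' hi hj := by
  classical
  have hex : ∀ p : V, ∃ (f : Γ(X, V)) (i : ι), X.basicOpen f ≤ U i ∧ (p : X) ∈ X.basicOpen f := fun p => by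
    obtain ⟨i, hi⟩ := Opens.mem_iSup.1 (hcov.ge (Set.mem_univ (p : X)))
    obtain ⟨f, hf, hp⟩ := hV.exists_basicOpen_le (V := U i) ⟨p.1, hi⟩ p.2
    exact ⟨f, i, hf, hp⟩
  choose f idx hfU hfp using hex
  have hspan : Ideal.span (Set.range f) = ⊤ := hV.self_le_iSup_basicOpen_iff.1 fun p hp =>
    Opens.mem_iSup.2 ⟨⟨_, ⟨p, hp⟩, rfl⟩, hfp ⟨p, hp⟩⟩
  obtain ⟨T, hTs, hT⟩ := (Ideal.span_eq_top_iff_finite _).1 hspan
  let α : Type u := {a : Γ(X, V) // a ∈ T}
  choose p hp using fun a : α => hTs a.2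
  let B : α → X.Opens := fun a => X.basicOpen a.1
  let ai : α → ι := fun a => idx (p a)
  have hBU : ∀ a, B a ≤ U (ai a) := fun a => (congrArg X.basicOpen (hp a).symm).le.trans (hfU (p a))
  have hBV : ∀ a, B a ≤ V := fun a => X.basicOpen_le _
  have hBcov : V ≤ ⨆ a, B a := by
    refine (hV.self_le_iSup_basicOpen_iff.2 hT).trans (iSup_le fun a => ?_)
    exact le_iSup_of_le (⟨a.1, a.2⟩ : α) le_rfl
  have hac := QCoh.acyclic_std (M := Coh.structureModule X) (Groth.Agent.QCoh.isQCoh_structureModule) hV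
    (fun a : α => a.1) (by rw [show Set.range (fun a : α => a.1) = (T : Set Γ(X, V)) from Subtype.range_coe]; exact hT)
  let c' : QCoh.Ab.Cochain (X := X.toPresheafedSpace.carrier) (QCoh.abSheaf (Coh.structureModule X)).presheaf B 2 :=
    fun σ W => c (ai (σ 0)) (ai (σ 1)) W.1 ((W.2 0).trans (hBV _)) ((W.2 0).trans (hBU _)) ((W.2 1).trans (hBU _))
  obtain ⟨h, hn, hd⟩ := hac 0 c' (fun σ W W' hW hW' i => (hnat _ _ _ _ i.le _ _ _).symm) (by
    funext σ W
    change (∑ a : Fin 3, ((-1 : ℤ) ^ (a : ℕ)) • ((c' (fun r : Fin 2 => σ (a.succAbove r))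
      ⟨W.1, fun r => W.2 (a.succAbove r)⟩ : Γ(X, W.1)))) = (0 : Γ(X, W.1))
    rw [Fin.sum_univ_three]
    change ((-1 : ℤ) ^ 0) • c (ai (σ 1)) (ai (σ 2)) W.1 ((W.2 1).trans (hBV _)) ((W.2 1).trans (hBU _))
          ((W.2 2).trans (hBU _)) +
        ((-1 : ℤ) ^ 1) • c (ai (σ 0)) (ai (σ 2)) W.1 ((W.2 0).trans (hBV _)) ((W.2 0).trans (hBU _))
          ((W.2 2).trans (hBU _)) +
        ((-1 : ℤ) ^ 2) • c (ai (σ 0)) (ai (σ 1)) W.1 ((W.2 0).trans (hBV _)) ((W.2 0).trans (hBU _))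
          ((W.2 1).trans (hBU _)) = 0
    simp only [pow_zero, pow_one, one_smul, neg_one_sq, neg_smul]
    have := hc (ai (σ 0)) (ai (σ 1)) (ai (σ 2)) W.1 ((W.2 0).trans (hBV _)) ((W.2 0).trans (hBU _))
      ((W.2 1).trans (hBU _)) ((W.2 2).trans (hBU _))
    rw [← this]
    abel)
  let u : ∀ a, Γ(X, B a) := fun a => h (fun _ => a) ⟨B a, fun _ => le_rfl⟩
  have hu : ∀ a b (W : X.Opens) (ha : W ≤ B a) (hb : W ≤ B b), res hb (u b) - res ha (u a) =
      c (ai a) (ai b) W (ha.trans (hBV a)) (ha.trans (hBU a)) (hb.trans (hBU b)) := by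
    intro a b W ha hb
    have e1 : ∀ (d : α) (hd' : W ≤ B d) (v : Fin 1 → α) (hv : ∀ r, W ≤ B (v r)), v 0 = d →
        h v ⟨W, hv⟩ = res hd' (u d) := by
      intro d hd' v hv e0
      obtain rfl : v = fun _ => d := funext fun r => by rw [Subsingleton.elim r 0, e0]
      exact (hn (fun _ => d) (B d) W (fun _ => le_rfl) hv (homOfLE hd')).symm
    have hab : ∀ r : Fin 2, W ≤ B (![a, b] r) := Fin.forall_fin_two.2 ⟨ha, hb⟩
    have := congrFun (congrFun hd ![a, b]) ⟨W, hab⟩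
    change (∑ r : Fin 2, ((-1 : ℤ) ^ (r : ℕ)) • ((h (fun s : Fin 1 => ![a, b] (r.succAbove s))
      ⟨W, fun s => hab (r.succAbove s)⟩ : Γ(X, W)))) =
      c (ai a) (ai b) W (ha.trans (hBV a)) (ha.trans (hBU a)) (hb.trans (hBU b)) at this
    rw [Fin.sum_univ_two] at this
    change ((-1 : ℤ) ^ 0) • (h (fun s : Fin 1 => ![a, b] ((0 : Fin 2).succAbove s)) ⟨W, _⟩ : Γ(X, W)) +
      ((-1 : ℤ) ^ 1) • (h (fun s : Fin 1 => ![a, b] ((1 : Fin 2).succAbove s)) ⟨W, _⟩ : Γ(X, W)) =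
        c (ai a) (ai b) W (ha.trans (hBV a)) (ha.trans (hBU a)) (hb.trans (hBU b)) at this
    rw [e1 b hb _ _ rfl, e1 a ha _ _ rfl] at this
    refine Eq.trans ?_ this
    simp [sub_eq_add_neg]
  have hl : ∀ (i : ι) (a : α), B a ⊓ U i ≤ V ⊓ U i := fun i a => inf_le_inf_right _ (hBV a)
  have hg : ∀ i, ∃ t : Γ(X, V ⊓ U i), ∀ a, res (hl i a) t = res inf_le_left (u a) +
      c (ai a) i (B a ⊓ U i) (inf_le_left.trans (hBV a)) (inf_le_left.trans (hBU a)) inf_le_right := by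
    intro i
    refine exists_glue (fun a => B a ⊓ U i) (hl i) (fun q hq => ?_) _ fun a b => ?_
    · obtain ⟨a, ha⟩ := Opens.mem_iSup.1 (hBcov hq.1)
      exact Opens.mem_iSup.2 ⟨a, ha, hq.2⟩
    · simp only [map_add, res_res, ← hnat]
      have := hu a b (B a ⊓ U i ⊓ (B b ⊓ U i)) (inf_le_left.trans inf_le_left) (inf_le_right.trans inf_le_left)
      have h3 := hc (ai a) (ai b) i (B a ⊓ U i ⊓ (B b ⊓ U i)) ((inf_le_left.trans inf_le_left).trans (hBV a))
        ((inf_le_left.trans inf_le_left).trans (hBU a)) ((inf_le_right.trans inf_le_left).trans (hBU b))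
        (inf_le_left.trans inf_le_right)
      rw [← h3, ← this]
      abel
  choose t ht using hg
  refine ⟨t, fun i j W hV' hi hj => eq_of_res_cover (fun a => B a ⊓ W) (fun _ => inf_le_right) ?_ _ _ fun a => ?_⟩
  · intro q hq
    obtain ⟨a, ha⟩ := Opens.mem_iSup.1 (hBcov (hV' hq))
    exact Opens.mem_iSup.2 ⟨a, ha, hq⟩
  · have e : ∀ (m : ι) (hm : W ≤ U m), res (inf_le_right : B a ⊓ W ≤ W) (res (le_inf hV' hm) (t m)) =
        res inf_le_left (u a) + c (ai a) m (B a ⊓ W) (inf_le_left.trans (hBV a)) (inf_le_left.trans (hBU a))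
          (inf_le_right.trans hm) := by
      intro m hm
      have := congrArg (res (inf_le_inf_left (B a) hm : B a ⊓ W ≤ B a ⊓ U m)) (ht m a)
      simp only [map_add, res_res, ← hnat] at this
      rw [res_res]
      exact this
    rw [map_sub, e j hj, e i hi, ← hnat, ← hc (ai a) i j (B a ⊓ W) (inf_le_left.trans (hBV a))
      (inf_le_left.trans (hBU a)) (inf_le_right.trans hi) (inf_le_right.trans hj)]
    abel

end Groth.Agent.DefSch76
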