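import Groth.Agent.DefSch76.Coc
import Groth.Agent.DefGlueLib.Schless

/-! The deformation given by a cocycle of derivations. -/

universe u

set_option backward.isDefEq.respectTransparency false
set_option backward.isDefEq.respectTransparency.types false
set_option maxHeartbeats 1000000

open CategoryTheory CategoryTheory.Limits AlgebraicGeometry TopologicalSpace Opposite ArtFun TrivSqZeroExt

noncomputable section

namespace Groth.Agent.DefSch76

open Scheme (AffineZariskiSite)
open Groth.Agent.DefGlueLib

variable {Λ k : Type u} [CommRing Λ] [Field k] [Algebra Λ k]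
variable {X : Scheme.{u}} {x : X ⟶ Art.specPt k} {ι : Type u} {U : ι → X.Opens} {κ : Type u}

/-- coordinates on the maximal ideal of an object with square-zero maximal ideal -/
structure Coord (A : Art Λ k) (κ : Type u) : Type u where
  coord : A.carrier →+ (κ → k)
  coord_mul : ∀ a b l, coord (a * b) l = A.res a * coord b l + A.res b * coord a l
  bij : Function.Bijective fun a : A.carrier => (A.res a, coord a)

theorem Coord.coord_one {A : Art Λ k} (co : Coord A κ) (l : κ) : co.coord 1 l = 0 := by
  simpa using co.coord_mul 1 1 l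

/-- the ambient ring of the twisted algebra over an open -/
abbrev Amb (U : ι → X.Opens) (κ : Type u) (V : X.Opens) : Type u :=
  Γ(X, V) × ∀ i, TrivSqZeroExt Γ(X, V ⊓ U i) (κ → Γ(X, V ⊓ U i))

namespace Coc

variable (c : Coc x U κ)

/-- the twisted algebra over an open -/
def sub (V : X.Opens) : Subring (Amb U κ V) where
  carrier := {p | (∀ i, (p.2 i).fst = res inf_le_left p.1) ∧
    ∀ l i j (W : X.Opens) (hV : W ≤ V) (hi : W ≤ U i) (hj : W ≤ U j),
      res (le_inf hV hj) ((p.2 j).snd l) - res (le_inf hV hi) ((p.2 i).snd l) =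
        c.δ l i j W hi hj (res hV p.1)}
  one_mem' := ⟨fun i => by simp, fun l i j W hV hi hj => by simp [c.δ_one]⟩
  zero_mem' := ⟨fun i => by simp, fun l i j W hV hi hj => by simp⟩
  add_mem' := by
    rintro p q ⟨hp, hp'⟩ ⟨hq, hq'⟩
    refine ⟨fun i => by simp [hp i, hq i], fun l i j W hV hi hj => ?_⟩
    simp only [Prod.fst_add, Prod.snd_add, Pi.add_apply, snd_add, map_add]
    rw [← hp' l i j W hV hi hj, ← hq' l i j W hV hi hj]
    abel
  neg_mem' := by
    rintro p ⟨hp, hp'⟩
    refine ⟨fun i => by simp [hp i], fun l i j W hV hi hj => ?_⟩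
    simp only [Prod.fst_neg, Prod.snd_neg, Pi.neg_apply, snd_neg, map_neg]
    rw [← hp' l i j W hV hi hj]
    abel
  mul_mem' := by
    rintro p q ⟨hp, hp'⟩ ⟨hq, hq'⟩
    refine ⟨fun i => by simp [hp i, hq i], fun l i j W hV hi hj => ?_⟩
    simp only [Prod.fst_mul, Prod.snd_mul, Pi.mul_apply, snd_mul, Pi.add_apply, Pi.smul_apply,
      MulOpposite.op_smul, MulOpposite.smul_eq_mul_unop, MulOpposite.unop_op, smul_eq_mul, map_add, map_mul,
      hp, hq, res_res]
    rw [c.mul, ← hp' l i j W hV hi hj, ← hq' l i j W hV hi hj]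
    ring

/-- the twisted algebra, as a ring -/
def RR (V : X.Opens) : CommRingCat.{u} := .of (c.sub V)

theorem ext' {V : X.Opens} {p q : c.RR V} (h1 : p.1.1 = q.1.1)
    (h2 : ∀ i l, (p.1.2 i).snd l = (q.1.2 i).snd l) : p = q :=
  Subtype.ext (Prod.ext h1 (funext fun i => TrivSqZeroExt.ext (by rw [p.2.1 i, q.2.1 i, h1])
    (funext fun l => h2 i l)))

/-- the restriction of pairs -/
def resT {A B : Type u} [CommRing A] [CommRing B] (φ : A →+* B) :
    TrivSqZeroExt A (κ → A) →+* TrivSqZeroExt B (κ → B) where
  toFun t := inl (φ t.fst) + inr fun l => φ (t.snd l)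
  map_one' := by ext <;> simp
  map_mul' s t := by
    ext <;>
      simp [MulOpposite.smul_eq_mul_unop]
  map_zero' := by ext <;> simp
  map_add' s t := by ext <;> simp

/-- restriction -/
def resR {V' V : X.Opens} (h : V' ≤ V) : c.RR V ⟶ c.RR V' :=
  CommRingCat.ofHom <| RingHom.codRestrict
    ((RingHom.prod ((res h).comp (RingHom.fst _ _))
      (RingHom.pi fun i => (resT (res (inf_le_inf_right (U i) h))).comp
        ((Pi.evalRingHom _ i).comp (RingHom.snd _ _)))).comp (c.sub V).subtype) _
    fun p => ⟨fun i => by simp [resT, p.2.1 i, res_res], fun l i j W hV hi hj => by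
      simpa [resT, res_res] using p.2.2 l i j W (hV.trans h) hi hj⟩

theorem resR_fst {V' V : X.Opens} (h : V' ≤ V) (p : c.RR V) : (c.resR h p).1.1 = res h p.1.1 := rfl

theorem resR_snd {V' V : X.Opens} (h : V' ≤ V) (p : c.RR V) (i : ι) (l : κ) :
    ((c.resR h p).1.2 i).snd l = res (inf_le_inf_right (U i) h) ((p.1.2 i).snd l) := by
  change (inl (res _ ((p.1.2 i).fst)) + inr fun l => res _ ((p.1.2 i).snd l) :
    TrivSqZeroExt Γ(X, V' ⊓ U i) (κ → Γ(X, V' ⊓ U i))).snd l = _
  simp

variable {A : Art Λ k} (co : Coord A κ)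

/-- the structure map -/
def aR (V : X.Opens) : A.carrier →+* c.RR V :=
  RingHom.codRestrict
    (RingHom.prod ((cst x V).comp A.res.toRingHom) (RingHom.pi fun i =>
      { toFun := fun a => inl (cst x (V ⊓ U i) (A.res a)) + inr fun l => cst x (V ⊓ U i) (co.coord a l)
        map_one' := by ext <;> simp [co.coord_one]
        map_mul' := fun a b => by
          ext <;> simp [co.coord_mul]
        map_zero' := by ext <;> simp
        map_add' := fun a b => by ext <;> simp })) _
    fun a => ⟨fun i => by simp [res_cst], fun l i j W hV hi hj => by simp [res_cst, c.const]⟩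

theorem aR_fst (V : X.Opens) (a : A.carrier) : (c.aR co V a).1.1 = cst x V (A.res a) := rfl

theorem aR_snd (V : X.Opens) (a : A.carrier) (i : ι) (l : κ) :
    ((c.aR co V a).1.2 i).snd l = cst x (V ⊓ U i) (co.coord a l) := by
  change (inl (cst x (V ⊓ U i) (A.res a)) + inr fun l => cst x (V ⊓ U i) (co.coord a l) :
    TrivSqZeroExt Γ(X, V ⊓ U i) (κ → Γ(X, V ⊓ U i))).snd l = _
  simp

theorem exists_mem (hcov : ⨆ i, U i = ⊤) {V : X.Opens} (hV : IsAffineOpen V) (s : Γ(X, V)) :
    ∃ p : c.RR V, p.1.1 = s := by
  have hex : ∀ l, ∃ t : ∀ i, Γ(X, V ⊓ U i), ∀ i j (W : X.Opens) (hV' : W ≤ V) (hi : W ≤ U i) (hj : W ≤ U j),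
      res (le_inf hV' hj) (t j) - res (le_inf hV' hi) (t i) = c.δ l i j W hi hj (res hV' s) := fun l =>
    exists_split hV hcov (fun i j W h hi hj => c.δ l i j W hi hj (res h s))
      (fun i j W' W h hV' hi hj => by rw [← c.natural l i j h hi hj, res_res])
      (fun i j m W hV' hi hj hm => c.cocycle l i j m W hi hj hm _)
  choose t ht using hex
  exact ⟨⟨(s, fun i => inl (res inf_le_left s) + inr fun l => t l i),
    fun i => by simp, fun l i j W hV hi hj => by simpa using ht l i j W hV hi hj⟩, rfl⟩

theorem isDef_RR (hcov : ⨆ i, U i = ⊤) [Finite κ] (V : AffineZariskiSite X) :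
    IsDef A (str x V) (c.aR co V.toOpens) ((RingHom.fst _ _).comp (c.sub V.toOpens).subtype) := by
  let _ : Algebra k Γ(X, V.toOpens) := (str x V).toAlgebra
  let b := Module.Free.chooseBasis k Γ(X, V.toOpens)
  choose e he using fun m => c.exists_mem hcov V.2 (b m)
  refine isDef_of_comb (e := e) ?_ (fun a => rfl) ?_
  · rw [show (((RingHom.fst _ _).comp (c.sub V.toOpens).subtype) : c.RR V.toOpens →+* _) ∘ e = b from funext he]
    change Function.Bijective (comb (algebraMap k Γ(X, V.toOpens)) b)
    rw [funext (comb_eq (A := k) b)]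
    exact ⟨b.linearIndependent, LinearMap.range_eq_top.1 (by rw [Finsupp.range_linearCombination, b.span_eq])⟩
  have hfst : ∀ v, (comb (c.aR co V.toOpens) e v).1.1 =
      Finsupp.linearCombination k b (v.mapRange A.res (map_zero _)) := fun v => by
    rw [← comb_eq (A := k) b, ← show (((RingHom.fst _ _).comp (c.sub V.toOpens).subtype) :
      c.RR V.toOpens →+* _) ∘ e = b from funext he]
    exact map_comb ((RingHom.fst _ _).comp (c.sub V.toOpens).subtype) A.res.toRingHom (fun a => rfl) e v
  have hsnd : ∀ v i l, ((comb (c.aR co V.toOpens) e v).1.2 i).snd l =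
      v.sum fun m a => cst x (V.toOpens ⊓ U i) (A.res a) * ((e m).1.2 i).snd l +
        res inf_le_left (b m) * cst x (V.toOpens ⊓ U i) (co.coord a l) := fun v i l => by
    simp only [comb, Finsupp.sum]
    rw [AddSubmonoidClass.coe_finset_sum, Prod.snd_sum, Finset.sum_apply, TrivSqZeroExt.snd_sum,
      Finset.sum_apply]
    refine Finset.sum_congr rfl fun m _ => ?_
    change (((c.aR co V.toOpens (v m)).1.2 i) * ((e m).1.2 i)).snd l = _
    rw [TrivSqZeroExt.snd_mul, Pi.add_apply, Pi.smul_apply, Pi.smul_apply, MulOpposite.smul_eq_mul_unop,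
      MulOpposite.unop_op, smul_eq_mul, aR_snd, (e m).2.1 i, he m, (c.aR co V.toOpens (v m)).2.1 i, aR_fst,
      res_cst]
    ring
  have hb : Function.Injective (Finsupp.linearCombination k b) := b.linearIndependent
  constructor
  · suffices h0 : ∀ v, comb (c.aR co V.toOpens) e v = 0 → v = 0 by
      intro v w hvw
      refine sub_eq_zero.1 (h0 _ ?_)
      rw [comb, Finsupp.sum_sub_index (fun m a a' => by rw [map_sub, sub_mul]), ← comb, ← comb, hvw, sub_self]
    intro v hv
    have h1 : v.mapRange A.res (map_zero _) = 0 := hb (by rw [← hfst, hv, map_zero]; rfl)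
    have h1' : ∀ m, A.res (v m) = 0 := fun m => DFunLike.congr_fun h1 m
    have h2 : ∀ l, v.sum (fun m a => res (le_refl V.toOpens) (b m) * cst x V.toOpens (co.coord a l)) = 0 := by
      intro l
      refine eq_of_res_cover (fun i => V.toOpens ⊓ U i) (fun _ => inf_le_left)
        (by rw [← inf_iSup_eq, hcov, inf_top_eq]) _ _ fun i => ?_
      rw [map_zero, map_finsuppSum]
      refine Eq.trans ?_ (show ((comb (c.aR co V.toOpens) e v).1.2 i).snd l = 0 by rw [hv]; rfl)
      rw [hsnd]
      exact Finsupp.sum_congr fun m _ => by rw [h1', map_zero, zero_mul, zero_add, map_mul, res_res, res_cst]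
    have h3 : ∀ l m, co.coord (v m) l = 0 := fun l m => by
      refine DFunLike.congr_fun (hb (a₁ := v.mapRange (fun a => co.coord a l) (by simp)) (a₂ := 0) ?_) m
      refine Eq.trans ?_ (map_zero (Finsupp.linearCombination k b)).symm
      rw [Finsupp.linearCombination_apply, Finsupp.sum_mapRange_index (fun m => zero_smul k (b m))]
      refine Eq.trans ?_ (h2 l)
      exact Finsupp.sum_congr fun m _ => by
        rw [res_self, Algebra.smul_def, mul_comm, cst_eq_str]
        rfl
    exact Finsupp.ext fun m => co.bij.1 (Prod.ext ((h1' m).trans (map_zero A.res).symm)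
      (funext fun l => (h3 l m).trans (by simp)))
  · intro p
    have := Fintype.ofFinite κ
    obtain ⟨g, hg⟩ := co.bij.2.hasRightInverse
    obtain ⟨v0, hv0⟩ := Finsupp.mapRange_surjective A.res (map_zero _) A.res_surjective (b.repr p.1.1)
    have hp0 : (comb (c.aR co V.toOpens) e v0).1.1 = p.1.1 := by rw [hfst, hv0, b.linearCombination_repr]
    let q := p - comb (c.aR co V.toOpens) e v0
    have hq : q.1.1 = 0 := by change p.1.1 - (comb (c.aR co V.toOpens) e v0).1.1 = 0; rw [hp0, sub_self]
    have hgl : ∀ l, ∃ w : Γ(X, V.toOpens), ∀ i, res inf_le_left w = (q.1.2 i).snd l := fun l =>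
      exists_glue (fun i => V.toOpens ⊓ U i) (fun _ => inf_le_left)
        (by rw [← inf_iSup_eq, hcov, inf_top_eq]) (fun i => (q.1.2 i).snd l) fun i j => by
          have := q.2.2 l i j ((V.toOpens ⊓ U i) ⊓ (V.toOpens ⊓ U j)) (inf_le_left.trans inf_le_left)
            (inf_le_left.trans inf_le_right) (inf_le_right.trans inf_le_right)
          rw [hq, map_zero, map_zero, sub_eq_zero] at this
          exact this.symm
    choose w hw using hgl
    have hz : ∀ f : κ → k, ∃ a, A.res a = 0 ∧ co.coord a = f := fun f =>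
      ⟨g (0, f), congrArg Prod.fst (hg (0, f)), congrArg Prod.snd (hg (0, f))⟩
    choose z hz0 hz1 using hz
    classical
    let d : Γ(X, V.toOpens) → (Module.Free.ChooseBasisIndex k Γ(X, V.toOpens) →₀ k) := b.repr
    let S := Finset.univ.biUnion fun l => (d (w l)).support
    let v1 : Module.Free.ChooseBasisIndex k Γ(X, V.toOpens) →₀ A.carrier :=
      ∑ m ∈ S, Finsupp.single m (z fun l => d (w l) m)
    refine ⟨v0 + v1, ?_⟩
    rw [comb, Finsupp.sum_add_index' (fun m => by rw [map_zero, zero_mul])
      (fun m a a' => by rw [map_add, add_mul]), ← comb, ← comb]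
    suffices comb (c.aR co V.toOpens) e v1 = q by rw [this]; exact add_sub_cancel _ _
    have hcomb : comb (c.aR co V.toOpens) e v1 = ∑ m ∈ S, c.aR co V.toOpens (z fun l => d (w l) m) * e m := by
      rw [comb, ← Finsupp.sum_finset_sum_index (fun m => by rw [map_zero, zero_mul])
        (fun m a a' => by rw [map_add, add_mul])]
      exact Finset.sum_congr rfl fun m _ => Finsupp.sum_single_index (by rw [map_zero, zero_mul])
    rw [hcomb]
    refine c.ext' ?_ fun i l => ?_
    · rw [AddSubmonoidClass.coe_finset_sum, Prod.fst_sum, hq]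
      refine Finset.sum_eq_zero fun m _ => ?_
      change (c.aR co V.toOpens _).1.1 * (e m).1.1 = 0
      rw [aR_fst, hz0, map_zero, zero_mul]
    · rw [AddSubmonoidClass.coe_finset_sum, Prod.snd_sum, Finset.sum_apply, TrivSqZeroExt.snd_sum,
        Finset.sum_apply, ← hw l i]
      conv_rhs => rw [← b.linearCombination_repr (w l), Finsupp.linearCombination_apply, map_finsuppSum,
        Finsupp.sum_of_support_subset _ (s := S) (Finset.subset_biUnion_of_mem (fun l => (d (w l)).support)
          (Finset.mem_univ l)) _ (fun m _ => by rw [zero_smul, map_zero])]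
      refine Finset.sum_congr rfl fun m _ => ?_
      change (((c.aR co V.toOpens _).1.2 i) * ((e m).1.2 i)).snd l = _
      rw [TrivSqZeroExt.snd_mul, Pi.add_apply, Pi.smul_apply, Pi.smul_apply, MulOpposite.smul_eq_mul_unop,
        MulOpposite.unop_op, smul_eq_mul, aR_snd, (e m).2.1 i, he m, (c.aR co V.toOpens _).2.1 i, aR_fst,
        hz0, hz1, map_zero, map_zero, zero_mul, zero_add, Algebra.smul_def, map_mul]
      change _ = res _ (str x V (d (w l) m)) * res _ (b m)
      rw [← cst_eq_str, res_cst, mul_comm]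

theorem resR_self {V : X.Opens} (h : V ≤ V) (p : c.RR V) : c.resR h p = p :=
  c.ext' (by rw [resR_fst, res_self]) fun i l => by rw [resR_snd, res_self]

theorem resR_resR {V'' V' V : X.Opens} (h : V' ≤ V) (h' : V'' ≤ V') (p : c.RR V) :
    c.resR h' (c.resR h p) = c.resR (h'.trans h) p :=
  c.ext' (by rw [resR_fst, resR_fst, resR_fst, res_res]) fun i l => by
    rw [resR_snd, resR_snd, resR_snd, res_res]

/-- the compatible family of deformations -/
def pdef (hcov : ⨆ i, U i = ⊤) [Finite κ] : PDef x A where
  R := { obj := fun V => c.RR V.unop.toOpens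
         map := fun {V W} f => c.resR (AffineZariskiSite.toOpens_mono f.unop.le)
         map_id := fun V => CommRingCat.hom_ext (RingHom.ext fun p => c.resR_self _ p)
         map_comp := fun f g => CommRingCat.hom_ext (RingHom.ext fun p => (c.resR_resR _ _ p).symm) }
  a V := c.aR co V.unop.toOpens
  a_map f a := c.ext' (by rw [resR_fst, aR_fst, aR_fst, res_cst]) fun i l => by
    rw [resR_snd, aR_snd, aR_snd, res_cst]
  q :=
    { app := fun V => CommRingCat.ofHom ((RingHom.fst _ _).comp (c.sub V.unop.toOpens).subtype)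
      naturality := fun V W f => rfl }
  isDef V := c.isDef_RR co hcov V.unop

/-- the deformation -/
def defo (hcov : ⨆ i, U i = ⊤) [Finite κ] : DefSch X x A := (c.pdef co hcov).toDefSch

end Coc

end Groth.Agent.DefSch76
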