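import Groth.Agent.DefSch76.DualAut
import Groth.Agent.OmegaUniv.Universal

/-! Families of derivations of the affine pieces, derivations of the structure sheaf, maps out of the differentials. -/

universe u

open CategoryTheory CategoryTheory.Limits AlgebraicGeometry Opposite ArtFun

noncomputable section

namespace Groth.Agent.DefSch76

open Scheme (AffineZariskiSite)

variable {k : Type u} [Field k] {X : Scheme.{u}} (x : X ⟶ Art.specPt k)

/-- families on the affine pieces are derivations of the structure sheaf -/
def famEquivDer : DerFam x ≃ OmegaSh.Der x (Coh.structureModule X) where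
  toFun := DerFam.toDer
  invFun := DerFam.ofDer
  left_inv F := DerFam.ext fun U s => F.toDer_app U s
  right_inv := DerFam.toDer_ofDer

variable [QuasiSeparated x]

/-- derivations of the structure sheaf are maps out of the differentials -/
def derEquivHom : OmegaSh.Der x (Coh.structureModule X) ≃ (Omega.sheaf x ⟶ Coh.structureModule X) where
  toFun D := (OmegaUniv.isUniversal_dOmega x _ D).exists.choose
  invFun α := (OmegaSh.dOmega x).postcomp α.val
  left_inv D := (OmegaUniv.isUniversal_dOmega x _ D).exists.choose_spec
  right_inv α := (OmegaUniv.isUniversal_dOmega x _ _).unique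
    (OmegaUniv.isUniversal_dOmega x _ _).exists.choose_spec rfl

/-- families on the affine pieces are maps out of the differentials -/
def famEquivHom : DerFam x ≃ (Omega.sheaf x ⟶ Coh.structureModule X) :=
  (famEquivDer x).trans (derEquivHom x)

theorem δ_famEquivHom_symm (α : Omega.sheaf x ⟶ Coh.structureModule X) (U : AffineZariskiSite X)
    (s : Γ(X, U.toOpens)) : ((famEquivHom x).symm α).δ U s =
      OmegaSh.fnSect X U.toOpens (α.app U.toOpens ((OmegaSh.dOmega x).app U.toOpens s)) := rfl

theorem famEquivHom_add {F G H : DerFam x} (h : ∀ U s, H.δ U s = F.δ U s + G.δ U s) :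
    famEquivHom x H = famEquivHom x F + famEquivHom x G := by
  rw [← Equiv.eq_symm_apply]
  refine DerFam.ext fun U s => ?_
  rw [h, δ_famEquivHom_symm, Scheme.Modules.Hom.add_app]
  change _ = OmegaSh.fnSect X U.toOpens (_ + _)
  rw [map_add, ← δ_famEquivHom_symm, ← δ_famEquivHom_symm, Equiv.symm_apply_apply, Equiv.symm_apply_apply]

end Groth.Agent.DefSch76
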