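import Groth.Agent.DefGlueLib.Glue
import Groth.Prelude.Def_Omega3

/-! Compatible derivations of the affine pieces of a scheme over a field, and derivations of the structure sheaf. -/

universe u

open CategoryTheory CategoryTheory.Limits AlgebraicGeometry Opposite ArtFun

noncomputable section

namespace Groth.Agent.DefSch76

open Scheme (AffineZariskiSite)
open Groth.Agent.DefGlueLib (str)

variable {k : Type u} [Field k] {X : Scheme.{u}} (x : X ⟶ Art.specPt k)

/-- restriction of functions to a smaller open -/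
abbrev res {V U : X.Opens} (h : V ≤ U) : Γ(X, U) →+* Γ(X, V) :=
  (X.presheaf.map (homOfLE h).op).hom

theorem res_res {W V U : X.Opens} (h : V ≤ U) (h' : W ≤ V) (s : Γ(X, U)) :
    res h' (res h s) = res (h'.trans h) s := by
  change (X.presheaf.map _ ≫ X.presheaf.map _).hom s = _
  rw [← Functor.map_comp]
  rfl

theorem eq_of_res_eq {W : X.Opens} (s t : Γ(X, W))
    (h : ∀ (U : AffineZariskiSite X) (hU : U.toOpens ≤ W), res hU s = res hU t) : s = t := by
  refine X.sheaf.eq_of_locally_eq' (fun U : {U : AffineZariskiSite X // U.toOpens ≤ W} => U.1.toOpens) W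
    (fun U => homOfLE U.2) (fun p hp => ?_) s t fun U => h U.1 U.2
  obtain ⟨_, ⟨V, hV, rfl⟩, hpV, hVW⟩ := X.isBasis_affineOpens.exists_subset_of_mem_open hp W.2
  exact TopologicalSpace.Opens.mem_iSup.2 ⟨⟨⟨V, hV⟩, hVW⟩, hpV⟩

/-- A family of `k`-derivations of the affine pieces, compatible with passing to basic opens. -/
structure DerFam : Type u where
  δ : ∀ U : AffineZariskiSite X, Γ(X, U.toOpens) →+ Γ(X, U.toOpens)
  mul : ∀ U s t, δ U (s * t) = s * δ U t + t * δ U s
  const : ∀ U c, δ U (str x U c) = 0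
  natural : ∀ {V U : AffineZariskiSite X} (h : V ≤ U) (s : Γ(X, U.toOpens)),
    δ V (res (AffineZariskiSite.toOpens_mono h) s) = res (AffineZariskiSite.toOpens_mono h) (δ U s)

variable {x}

namespace DerFam

variable (D : DerFam x)

theorem compatible {W : X.Opens} (s : Γ(X, W)) (U U' : AffineZariskiSite X) (hU : U.toOpens ≤ W)
    (hU' : U'.toOpens ≤ W) :
    res (inf_le_left : U.toOpens ⊓ U'.toOpens ≤ _) (D.δ U (res hU s)) =
      res (inf_le_right : U.toOpens ⊓ U'.toOpens ≤ _) (D.δ U' (res hU' s)) := by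
  refine X.sheaf.eq_of_locally_eq'
    (fun V : {V : AffineZariskiSite X // V ≤ U ∧ V ≤ U'} => V.1.toOpens) _
    (fun V => homOfLE (le_inf (AffineZariskiSite.toOpens_mono V.2.1) (AffineZariskiSite.toOpens_mono V.2.2)))
    (fun p hp => ?_) _ _ fun V => ?_
  · obtain ⟨f, g, hfg, hpf⟩ := exists_basicOpen_le_affine_inter U.2 U'.2 p hp
    exact TopologicalSpace.Opens.mem_iSup.2
      ⟨⟨U.basicOpen f, U.basicOpen_le f, ⟨g, hfg.symm⟩⟩, hpf⟩
  · change res _ (res _ _) = res _ (res _ _)
    rw [res_res, res_res, ← D.natural V.2.1, ← D.natural V.2.2, res_res, res_res]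

theorem existsUnique_app {W : X.Opens} (s : Γ(X, W)) :
    ∃! t : Γ(X, W), ∀ (U : AffineZariskiSite X) (hU : U.toOpens ≤ W), res hU t = D.δ U (res hU s) := by
  obtain ⟨t, ht, huniq⟩ := X.sheaf.existsUnique_gluing'
    (fun U : {U : AffineZariskiSite X // U.toOpens ≤ W} => U.1.toOpens) W (fun U => homOfLE U.2)
    (fun p hp => by
      obtain ⟨_, ⟨V, hV, rfl⟩, hpV, hVW⟩ := X.isBasis_affineOpens.exists_subset_of_mem_open hp W.2
      exact TopologicalSpace.Opens.mem_iSup.2 ⟨⟨⟨V, hV⟩, hVW⟩, hpV⟩)
    (fun U => D.δ U.1 (res U.2 s)) (fun U U' => D.compatible s U.1 U'.1 U.2 U'.2)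
  exact ⟨t, fun U hU => ht ⟨U, hU⟩, fun t' ht' => huniq t' fun U => ht' U.1 U.2⟩

/-- the glued map on sections over an arbitrary open -/
def app {W : X.Opens} (s : Γ(X, W)) : Γ(X, W) := (D.existsUnique_app s).exists.choose

theorem res_app {W : X.Opens} (s : Γ(X, W)) (U : AffineZariskiSite X) (hU : U.toOpens ≤ W) :
    res hU (D.app s) = D.δ U (res hU s) :=
  (D.existsUnique_app s).exists.choose_spec U hU

theorem app_affine (U : AffineZariskiSite X) (s : Γ(X, U.toOpens)) : D.app s = D.δ U s := by
  refine eq_of_res_eq _ _ fun V hV => ?_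
  rw [D.res_app s V hV]
  have h := D.compatible s U V le_rfl hV
  have e1 : res (le_refl U.toOpens) s = s := by
    change (X.presheaf.map (𝟙 _)).hom s = s
    rw [CategoryTheory.Functor.map_id]; rfl
  rw [e1] at h
  have h2 := congrArg (res (le_inf hV le_rfl : V.toOpens ≤ U.toOpens ⊓ V.toOpens)) h
  rw [res_res, res_res] at h2
  refine Eq.trans ?_ h2.symm
  change D.δ V _ = res (le_refl _) _
  change _ = (X.presheaf.map (𝟙 _)).hom _
  rw [CategoryTheory.Functor.map_id]; rfl

theorem app_res {W W' : X.Opens} (h : W' ≤ W) (s : Γ(X, W)) : D.app (res h s) = res h (D.app s) := by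
  refine eq_of_res_eq _ _ fun U hU => ?_
  rw [D.res_app _ U hU, res_res, res_res, D.res_app s U (hU.trans h)]

theorem opens_specPt (T : (Art.specPt k).Opens) : T = ⊥ ∨ T = ⊤ := by
  by_cases h : ∃ p, p ∈ T
  · obtain ⟨p, hp⟩ := h
    refine Or.inr (top_unique fun q _ => ?_)
    have : q = p := Subsingleton.elim (α := PrimeSpectrum k) q p
    exact this ▸ hp
  · exact Or.inl (le_bot_iff.mp fun p hp => (h ⟨p, hp⟩).elim)

theorem app_const (T : (Art.specPt k).Opens) (c : Γ(Art.specPt k, T)) : D.app (x.app T c) = 0 := by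
  refine eq_of_res_eq _ _ fun U hU => ?_
  rw [D.res_app _ U hU, map_zero]
  rcases opens_specPt T with rfl | rfl
  · have : Subsingleton Γ(Art.specPt k, ⊥) :=
      CommRingCat.subsingleton_of_isTerminal (Art.specPt k).sheaf.isTerminalOfEmpty
    rw [Subsingleton.elim c 0, map_zero, map_zero, map_zero]
  · obtain ⟨c', rfl⟩ : ∃ c', (Scheme.ΓSpecIso (CommRingCat.of k)).inv c' = c :=
      ⟨(Scheme.ΓSpecIso (CommRingCat.of k)).hom c, Iso.hom_inv_id_apply _ _⟩
    refine Eq.trans (congrArg (D.δ U) ?_) (D.const U c')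
    rfl

/-- the derivation of the structure sheaf glued from a family -/
def toDer : OmegaSh.Der x (Coh.structureModule X) where
  d {W} :=
    { toFun := fun s => D.app (W := W.unop) s
      map_zero' := by
        refine eq_of_res_eq _ _ fun U hU => ?_
        rw [D.res_app _ U hU]
        exact (congrArg _ (map_zero _)).trans ((map_zero _).trans (map_zero _).symm)
      map_add' := fun s t => by
        refine eq_of_res_eq _ _ fun U hU => ?_
        rw [D.res_app _ U hU]
        refine (congrArg _ (map_add _ _ _)).trans ((map_add _ _ _).trans ?_)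
        refine Eq.trans ?_ (map_add _ _ _).symm
        rw [← D.res_app s U hU, ← D.res_app t U hU] }
  d_mul {W} a b := by
    change D.app (W := W.unop) (a * b) =
      (a : Γ(X, W.unop)) * D.app (W := W.unop) b + (b : Γ(X, W.unop)) * D.app (W := W.unop) a
    refine eq_of_res_eq _ _ fun U hU => ?_
    rw [D.res_app _ U hU]
    rw [map_mul (res hU) a b, map_add (res hU), map_mul (res hU) a (D.app b), map_mul (res hU) b (D.app a),
      D.res_app b U hU, D.res_app a U hU]
    exact D.mul U _ _
  d_map {W W'} h s := D.app_res h.unop.le s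
  d_app {T} c := D.app_const T.unop c

theorem toDer_app (U : AffineZariskiSite X) (s : Γ(X, U.toOpens)) :
    OmegaSh.fnSect X U.toOpens (D.toDer.app U.toOpens s) = D.δ U s := D.app_affine U s

end DerFam

/-- A derivation of the structure sheaf restricted to the affine pieces. -/
def DerFam.ofDer (D : OmegaSh.Der x (Coh.structureModule X)) : DerFam x where
  δ U := (OmegaSh.fnSect X U.toOpens).comp (D.app U.toOpens)
  mul U s t := D.d_mul (X := op U.toOpens) s t
  const U c := by
    change D.d (X := op U.toOpens) (str x U c) = 0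
    have h1 := D.d_map (homOfLE (le_top : U.toOpens ≤ x ⁻¹ᵁ ⊤)).op
      (x.app ⊤ ((Scheme.ΓSpecIso (CommRingCat.of k)).inv c))
    refine h1.trans ?_
    have h2 := D.d_app (X := op (⊤ : (Art.specPt k).Opens)) ((Scheme.ΓSpecIso (CommRingCat.of k)).inv c)
    exact (congrArg _ h2).trans (map_zero _)
  natural {V U} h s := D.d_map (homOfLE (AffineZariskiSite.toOpens_mono h)).op s

theorem DerFam.toDer_ofDer (D : OmegaSh.Der x (Coh.structureModule X)) : (DerFam.ofDer D).toDer = D := by
  refine PresheafOfModules.Derivation.ext (funext fun W => AddMonoidHom.ext fun s => ?_)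
  refine eq_of_res_eq (W := W.unop) _ _ fun U hU => ?_
  refine ((DerFam.ofDer D).res_app (W := W.unop) s U hU).trans ?_
  exact D.d_map (homOfLE hU).op s

end Groth.Agent.DefSch76
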