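import Groth.Agent.DefGlueLib.Alg
import Mathlib.RingTheory.Ideal.Maps

/-! Reading the closed fibre off a step `J ⊊ I` of ideals of the base of a flat deformation. -/

universe u

open CategoryTheory ArtFun ArtFun.Art

namespace Groth.Agent.DefSch76

open Groth.Agent.DefGlueLib

variable {Λ k : Type u} [CommRing Λ] [Field k] [Algebra Λ k] {C : Art Λ k}
variable {R B₀ : Type u} [CommRing R] [CommRing B₀] {c : k →+* B₀} {a : C →+* R} {q : R →+* B₀}

theorem q_eq_zero_of_mul_mem (h : IsDef C c a q) {J : Ideal C} {j : C} (hj : j ∉ J) {s : R}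
    (hs : a j * s ∈ J.map a) : q s = 0 := by
  obtain ⟨κ, e, he⟩ := h.exists_basis
  have hb := h.bijective_comb he
  let _ := a.toAlgebra
  have hcomb : comb a e = Finsupp.linearCombination C e := funext (comb_eq (A := C) e)
  rw [hcomb] at hb
  let E := LinearEquiv.ofBijective _ hb
  have key : ∀ y ∈ J.map a, ∀ i, E.symm y i ∈ J := by
    intro y hy
    have hy' : y ∈ (J • ⊤ : Submodule C R) := by rw [Ideal.smul_top_eq_map]; exact hy
    refine Submodule.smul_induction_on hy' (fun b hb' n _ i => ?_) fun y z hy hz i => ?_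
    · rw [map_smul, Finsupp.smul_apply, smul_eq_mul]
      exact Ideal.mul_mem_right _ _ hb'
    · rw [map_add, Finsupp.add_apply]
      exact J.add_mem (hy i) (hz i)
  obtain ⟨v, rfl⟩ : ∃ v, E v = s := ⟨E.symm s, E.apply_symm_apply s⟩
  have hv : ∀ i, C.res (v i) = 0 := fun i => by
    by_contra hne
    have hu : IsUnit (v i) := IsLocalRing.notMem_maximalIdeal.mp fun hm =>
      hne ((mem_maximalIdeal_iff C _).1 hm)
    have h2 := key _ hs i
    rw [show a j * E v = E (j • v) by rw [map_smul, Algebra.smul_def]; rfl, E.symm_apply_apply,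
      Finsupp.smul_apply, smul_eq_mul, Ideal.mul_unit_mem_iff_mem J hu] at h2
    exact hj h2
  change q (Finsupp.linearCombination C e v) = 0
  rw [← hcomb, h.q_comb]
  rw [show v.mapRange C.res (map_zero _) = 0 from Finsupp.ext fun i => hv i]
  simp [comb]

/-- Over `I = J + (j)` with `m I ⊆ J`, elements of `I R` modulo `J R` are read in the closed fibre. -/
theorem exists_coeff {I J : Ideal C} {j : C} (hI : I ≤ J ⊔ Ideal.span {j}) {y : R}
    (hy : y ∈ I.map a) : ∃ s, y - a j * s ∈ J.map a := by
  have h2 := Ideal.map_mono (f := a) hI hy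
  rw [Ideal.map_sup, Ideal.map_span, Set.image_singleton] at h2
  obtain ⟨u, hu, w, hw, rfl⟩ := Submodule.mem_sup.1 h2
  obtain ⟨s, rfl⟩ := Ideal.mem_span_singleton'.1 hw
  exact ⟨s, by rw [mul_comm s, add_sub_cancel_right]; exact hu⟩

theorem coeff_unique (h : IsDef C c a q) {J : Ideal C} {j : C} (hj : j ∉ J) {y s t : R}
    (hs : y - a j * s ∈ J.map a) (ht : y - a j * t ∈ J.map a) : q s = q t := by
  refine sub_eq_zero.1 ((map_sub q s t).symm.trans (q_eq_zero_of_mul_mem h hj ?_))
  convert Ideal.sub_mem _ ht hs using 1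
  ring

end Groth.Agent.DefSch76
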