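import Groth.Agent.DefSch76.AutSec
import Groth.Agent.DefSch76.DerSheaf
import Groth.Agent.DefSch76.FlatIdeal

/-! Automorphisms of a first order deformation are derivations of the structure sheaf. -/

universe u

set_option backward.isDefEq.respectTransparency false
set_option backward.isDefEq.respectTransparency.types false

open CategoryTheory CategoryTheory.Limits AlgebraicGeometry Opposite ArtFun

noncomputable section

namespace Groth.Agent.DefSch76

open Scheme (AffineZariskiSite)
open Groth.Agent.DefGlueLib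

variable {Λ k : Type u} [CommRing Λ] [Field k] [Algebra Λ k]
variable {X : Scheme.{u}} {x : X ⟶ Art.specPt k} {C : Art Λ k}

/-- the ring of a deformation over an affine piece -/
abbrev RU (ξ : DefSch X x C) (U : AffineZariskiSite X) : CommRingCat.{u} := (ofSch ξ).R.obj (op U)

/-- reduction to the closed fibre over an affine piece -/
def qq (ξ : DefSch X x C) (U : AffineZariskiSite X) : RU ξ U →+* Γ(X, U.toOpens) :=
  ((ofSch ξ).q.app (op U)).hom

/-- structure map over an affine piece -/
def aa (ξ : DefSch X x C) (U : AffineZariskiSite X) : C →+* RU ξ U := (ofSch ξ).a (op U)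

/-- restriction between affine pieces -/
def rr (ξ : DefSch X x C) {V U : AffineZariskiSite X} (h : V ≤ U) : RU ξ U →+* RU ξ V :=
  ((ofSch ξ).R.map (homOfLE h).op).hom

section basic

variable (ξ : DefSch X x C) (U : AffineZariskiSite X)

theorem qq_surjective : Function.Surjective (qq ξ U) := ((ofSch ξ).isDef (op U)).surjective

theorem qq_aa (c : C) : qq ξ U (aa ξ U c) = str x U (C.res c) := ((ofSch ξ).isDef (op U)).comm c

theorem qq_ker {r : RU ξ U} (h : qq ξ U r = 0) : r ∈ (IsLocalRing.maximalIdeal C).map (aa ξ U) :=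
  ((ofSch ξ).isDef (op U)).ker_le h

theorem rr_aa {V : AffineZariskiSite X} (h : V ≤ U) (c : C) : rr ξ h (aa ξ U c) = aa ξ V c :=
  (ofSch ξ).a_map (homOfLE h).op c

theorem qq_rr {V : AffineZariskiSite X} (h : V ≤ U) (r : RU ξ U) :
    qq ξ V (rr ξ h r) = res (AffineZariskiSite.toOpens_mono h) (qq ξ U r) :=
  ConcreteCategory.congr_hom ((ofSch ξ).qU_map (homOfLE h)) r

variable {ξ} (e : ξ.Iso ξ)

theorem phi_aa (c : C) : (phi e U).hom (aa ξ U c) = aa ξ U c := (phi_spec e U).1 c

theorem qq_phi (r : RU ξ U) : qq ξ U ((phi e U).hom r) = qq ξ U r := (phi_spec e U).2 r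

theorem rr_phi {V : AffineZariskiSite X} (h : V ≤ U) (r : RU ξ U) :
    (phi e V).hom (rr ξ h r) = rr ξ h ((phi e U).hom r) := phi_natural e (homOfLE h) r

end basic

variable (Λ k) in
/-- `ε`, as an element of the object `k[ε]` -/
abbrev eps : Art.dual Λ k := (DualNumber.eps : DualNumber k)

theorem res_eps : (Art.dual Λ k).res (eps Λ k) = 0 := DualNumber.fst_eps

theorem eps_ne_zero : eps Λ k ≠ 0 := fun h =>
  one_ne_zero (α := k) (DualNumber.snd_eps.symm.trans (congrArg TrivSqZeroExt.snd h))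

theorem eq_mul_eps (c : DualNumber k) (h : TrivSqZeroExt.fst c = 0) :
    (TrivSqZeroExt.inl (TrivSqZeroExt.snd c) : DualNumber k) * DualNumber.eps = c := by
  apply TrivSqZeroExt.ext <;> simp [h]

theorem maximalIdeal_le : IsLocalRing.maximalIdeal (Art.dual Λ k) ≤ ⊥ ⊔ Ideal.span {eps Λ k} := fun c hc =>
  Ideal.mem_sup_right (Ideal.mem_span_singleton'.2
    ⟨_, eq_mul_eps c ((Art.mem_maximalIdeal_iff _ c).1 hc)⟩)

theorem eps_mul_eq_zero {c : Art.dual Λ k} (hc : c ∈ IsLocalRing.maximalIdeal (Art.dual Λ k)) :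
    eps Λ k * c = 0 := by
  obtain ⟨b, hb⟩ := Ideal.mem_span_singleton'.1 (by simpa using maximalIdeal_le hc)
  rw [← hb, mul_comm b, ← mul_assoc, show eps Λ k * eps Λ k = 0 from DualNumber.eps_mul_eps, zero_mul]

variable {ξ : DefSch X x (Art.dual Λ k)}

theorem eps_mul_of_q (U : AffineZariskiSite X) {r : RU ξ U} (hr : qq ξ U r = 0) :
    aa ξ U (eps Λ k) * r = 0 := by
  refine Submodule.span_induction (p := fun t _ => aa ξ U (eps Λ k) * t = 0) ?_ (mul_zero _)
    (fun s t _ _ hs ht => by rw [mul_add, hs, ht, add_zero])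
    (fun g t _ ht => by rw [smul_eq_mul, mul_left_comm, ht, mul_zero]) (qq_ker ξ U hr)
  rintro _ ⟨c, hc, rfl⟩
  rw [← map_mul, eps_mul_eq_zero hc, map_zero]

/-- multiplication by `ε`, from the closed fibre -/
def η (ξ : DefSch X x (Art.dual Λ k)) (U : AffineZariskiSite X) : Γ(X, U.toOpens) →+ RU ξ U :=
  AddMonoidHom.mk' (fun s => aa ξ U (eps Λ k) * (qq_surjective ξ U s).choose) fun s t => by
    rw [← mul_add, ← sub_eq_zero, ← mul_sub]
    refine eps_mul_of_q U ?_
    rw [map_sub, map_add, (qq_surjective ξ U _).choose_spec, (qq_surjective ξ U s).choose_spec,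
      (qq_surjective ξ U t).choose_spec, sub_self]

theorem η_q (U : AffineZariskiSite X) (r : RU ξ U) : η ξ U (qq ξ U r) = aa ξ U (eps Λ k) * r := by
  change aa ξ U (eps Λ k) * _ = _
  rw [← sub_eq_zero, ← mul_sub]
  exact eps_mul_of_q U (by rw [map_sub, (qq_surjective ξ U _).choose_spec, sub_self])

theorem q_η (U : AffineZariskiSite X) (s : Γ(X, U.toOpens)) : qq ξ U (η ξ U s) = 0 := by
  obtain ⟨r, rfl⟩ := qq_surjective ξ U s
  rw [η_q, map_mul, qq_aa, res_eps, map_zero, zero_mul]

theorem mul_η (U : AffineZariskiSite X) (r : RU ξ U) (s : Γ(X, U.toOpens)) :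
    r * η ξ U s = η ξ U (qq ξ U r * s) := by
  obtain ⟨t, rfl⟩ := qq_surjective ξ U s
  rw [← map_mul, η_q, η_q, mul_left_comm]

theorem η_mul_η (U : AffineZariskiSite X) (s t : Γ(X, U.toOpens)) : η ξ U s * η ξ U t = 0 := by
  rw [mul_η, q_η, zero_mul, map_zero]

theorem η_injective (U : AffineZariskiSite X) : Function.Injective (η ξ U) := by
  refine (injective_iff_map_eq_zero _).2 fun s hs => ?_
  obtain ⟨r, rfl⟩ := qq_surjective ξ U s
  rw [η_q] at hs
  exact q_eq_zero_of_mul_mem ((ofSch ξ).isDef (op U)) (J := ⊥) (fun h => eps_ne_zero (Ideal.mem_bot.1 h))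
    (hs ▸ zero_mem ((⊥ : Ideal (Art.dual Λ k)).map (aa ξ U)))

theorem exists_η (U : AffineZariskiSite X) {y : RU ξ U} (hy : qq ξ U y = 0) : ∃ s, η ξ U s = y := by
  obtain ⟨s, hs⟩ := exists_coeff (maximalIdeal_le (Λ := Λ) (k := k)) (qq_ker ξ U hy)
  rw [Ideal.map_bot, Ideal.mem_bot, sub_eq_zero] at hs
  exact ⟨_, (η_q U s).trans hs.symm⟩

theorem η_natural {V U : AffineZariskiSite X} (h : V ≤ U) (s : Γ(X, U.toOpens)) :
    rr ξ h (η ξ U s) = η ξ V (res (AffineZariskiSite.toOpens_mono h) s) := by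
  obtain ⟨r, rfl⟩ := qq_surjective ξ U s
  rw [η_q, map_mul, rr_aa, ← qq_rr, η_q]

theorem DerFam.ext {F G : DerFam x} (h : ∀ U s, F.δ U s = G.δ U s) : F = G := by
  obtain ⟨a, _, _, _⟩ := F
  obtain ⟨b, _, _, _⟩ := G
  obtain rfl : a = b := funext fun U => AddMonoidHom.ext (h U)
  rfl

theorem DerFam.δ_one (F : DerFam x) (U : AffineZariskiSite X) : F.δ U 1 = 0 := by
  simpa using F.mul U 1 1

/-- the endomorphism over one affine piece attached to a family of derivations -/
def endHom (ξ : DefSch X x (Art.dual Λ k)) (F : DerFam x) (U : AffineZariskiSite X) : RU ξ U →+* RU ξ U where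
  toFun r := r + η ξ U (F.δ U (qq ξ U r))
  map_one' := by rw [map_one, F.δ_one, map_zero, add_zero]
  map_mul' r t := by
    rw [map_mul, F.mul, map_add (η ξ U), ← mul_η, ← mul_η]
    linear_combination (norm := ring_nf) -η_mul_η (ξ := ξ) U (F.δ U (qq ξ U r)) (F.δ U (qq ξ U t))
  map_zero' := by rw [map_zero, map_zero, map_zero, add_zero]
  map_add' r t := by rw [map_add, map_add, map_add]; abel

theorem endHom_apply (F : DerFam x) (U : AffineZariskiSite X) (r : RU ξ U) :
    endHom ξ F U r = r + η ξ U (F.δ U (qq ξ U r)) := rfl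

theorem rr_endHom (F : DerFam x) {V U : AffineZariskiSite X} (h : V ≤ U) (r : RU ξ U) :
    endHom ξ F V (rr ξ h r) = rr ξ h (endHom ξ F U r) := by
  rw [endHom_apply, endHom_apply, map_add, η_natural, ← F.natural h, qq_rr]

/-- the endomorphism of the sections attached to a family of derivations -/
def endOfFam (ξ : DefSch X x (Art.dual Λ k)) (F : DerFam x) :
    PHom (𝟙 (Art.dual Λ k)) (ofSch ξ) (ofSch ξ) where
  app :=
    { app := fun U => CommRingCat.ofHom (endHom ξ F U.unop)
      naturality := fun U V f => CommRingCat.hom_ext (RingHom.ext fun r => rr_endHom F f.unop.le r) }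
  comm U c := by
    change endHom ξ F U.unop (aa ξ U.unop c) = aa ξ U.unop c
    rw [endHom_apply, qq_aa, F.const, map_zero, add_zero]
  q_app := NatTrans.ext (funext fun U => CommRingCat.hom_ext (RingHom.ext fun r => by
    change qq ξ U.unop (endHom ξ F U.unop r) = qq ξ U.unop r
    rw [endHom_apply, map_add, q_η, add_zero]))

/-- the automorphism attached to a family of derivations -/
def autOfFam (ξ : DefSch X x (Art.dual Λ k)) (F : DerFam x) : ξ.Iso ξ := autOfPHom (endOfFam ξ F)

theorem phi_autOfFam (F : DerFam x) (U : AffineZariskiSite X) (r : RU ξ U) :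
    (phi (autOfFam ξ F) U).hom r = r + η ξ U (F.δ U (qq ξ U r)) :=
  congrArg (fun f => f.hom r) (phi_autOfPHom (endOfFam ξ F) U)

theorem fam_eq_of_hom_eq {F G : DerFam x} (h : (autOfFam ξ F).iso.hom = (autOfFam ξ G).iso.hom) : F = G := by
  refine DerFam.ext fun U s => η_injective (ξ := ξ) U ?_
  obtain ⟨r, rfl⟩ := qq_surjective ξ U s
  have e : autOfFam ξ F = autOfFam ξ G := iso_ext h
  have := phi_autOfFam (ξ := ξ) F U r
  rw [e, phi_autOfFam] at this
  exact (add_left_cancel this).symm

theorem exists_fam (e : ξ.Iso ξ) : ∃ F : DerFam x, (autOfFam ξ F).iso.hom = e.iso.hom := by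
  have hq : ∀ U y, qq ξ U ((phi e U).hom y - y) = 0 := fun U y => by rw [map_sub, qq_phi, sub_self]
  have hex : ∀ U s, ∃ t, ∀ r, qq ξ U r = s → η ξ U t = (phi e U).hom r - r := by
    intro U s
    obtain ⟨r, rfl⟩ := qq_surjective ξ U s
    obtain ⟨t, ht⟩ := exists_η U (hq U r)
    refine ⟨t, fun r' hr' => ht.trans ?_⟩
    obtain ⟨u, hu⟩ := exists_η U (y := r' - r) (by rw [map_sub, hr', sub_self])
    have hfix : (phi e U).hom (η ξ U u) = η ξ U u := by
      obtain ⟨w, rfl⟩ := qq_surjective ξ U u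
      rw [η_q, map_mul, phi_aa, ← sub_eq_zero, ← mul_sub]
      exact eps_mul_of_q U (hq U w)
    rw [hu, map_sub] at hfix
    linear_combination (norm := ring_nf) -hfix
  choose δ hδ using hex
  have key : ∀ U r, η ξ U (δ U (qq ξ U r)) = (phi e U).hom r - r := fun U r => hδ U _ r rfl
  let F : DerFam x :=
    { δ := fun U => AddMonoidHom.mk' (δ U) fun s t => η_injective (ξ := ξ) U (by
        obtain ⟨r, rfl⟩ := qq_surjective ξ U s
        obtain ⟨w, rfl⟩ := qq_surjective ξ U t
        rw [map_add (η ξ U), ← map_add (qq ξ U), key, key, key, map_add]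
        abel)
      mul := fun U s t => η_injective (ξ := ξ) U (by
        obtain ⟨r, rfl⟩ := qq_surjective ξ U s
        obtain ⟨w, rfl⟩ := qq_surjective ξ U t
        change η ξ U (δ U _) = η ξ U (_ * δ U _ + _ * δ U _)
        rw [map_add (η ξ U), ← map_mul, ← mul_η, ← mul_η, key, key, key, map_mul]
        have h0 : ((phi e U).hom r - r) * ((phi e U).hom w - w) = 0 := by rw [← key, ← key, η_mul_η]
        linear_combination (norm := ring_nf) h0)
      const := fun U c => η_injective (ξ := ξ) U (by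
        obtain ⟨c', rfl⟩ := (Art.dual Λ k).res_surjective c
        change η ξ U (δ U _) = η ξ U 0
        rw [← qq_aa, key, phi_aa, sub_self, map_zero])
      natural := fun {V U} h s => η_injective (ξ := ξ) V (by
        obtain ⟨r, rfl⟩ := qq_surjective ξ U s
        change η ξ V (δ V _) = η ξ V (res _ (δ U _))
        rw [← η_natural h, key, map_sub, ← qq_rr, key, rr_phi]) }
  refine ⟨F, hom_eq_of_phi_eq fun U => CommRingCat.hom_ext (RingHom.ext fun r => ?_)⟩
  rw [phi_autOfFam]
  change r + η ξ U (δ U _) = _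
  rw [key, add_sub_cancel]

/-- composition of automorphisms adds the derivations -/
theorem hom_autOfFam_add {F G H : DerFam x} (h : ∀ U s, H.δ U s = F.δ U s + G.δ U s) :
    ((autOfFam ξ F).trans (autOfFam ξ G)).iso.hom = (autOfFam ξ H).iso.hom := by
  refine hom_eq_of_phi_eq fun U => CommRingCat.hom_ext (RingHom.ext fun r => ?_)
  rw [phi_trans, CommRingCat.comp_apply, phi_autOfFam, phi_autOfFam, phi_autOfFam, map_add (qq ξ U), q_η,
    add_zero, h, map_add (η ξ U)]
  abel

end Groth.Agent.DefSch76
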