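import Groth.Agent.DefSch76.Coc
import Groth.Agent.DRHyp.Omega
import Groth.Agent.RefX.QCoh
import Groth.Agent.OmegaUniv.Unram

/-! Sections of `𝓗om(Ω, O)` are derivations of the structure sheaf on affine opens. -/

universe u

set_option backward.isDefEq.respectTransparency false
set_option backward.isDefEq.respectTransparency.types false

open CategoryTheory CategoryTheory.Limits AlgebraicGeometry TopologicalSpace Opposite ArtFun

noncomputable section

namespace Groth.Agent.DefSch76

open Scheme (AffineZariskiSite)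

variable {k : Type u} [Field k] {X : Scheme.{u}} (x : X ⟶ Art.specPt k)

/-- a family of derivations of the affine opens contained in `U₀`, compatible with passing to basic opens -/
structure LocFam (U₀ : X.Opens) : Type u where
  δ : ∀ W : AffineZariskiSite X, W.toOpens ≤ U₀ → (Γ(X, W.toOpens) →+ Γ(X, W.toOpens))
  mul : ∀ W h s t, δ W h (s * t) = s * δ W h t + t * δ W h s
  const : ∀ W h c, δ W h (cst x W.toOpens c) = 0
  natural : ∀ {W' W : AffineZariskiSite X} (hle : W' ≤ W) (h : W.toOpens ≤ U₀) (s : Γ(X, W.toOpens)),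
    δ W' ((AffineZariskiSite.toOpens_mono hle).trans h) (res (AffineZariskiSite.toOpens_mono hle) s) =
      res (AffineZariskiSite.toOpens_mono hle) (δ W h s)

theorem eq_of_basicOpen {U V : X.Opens} (hU : IsAffineOpen U) (f : Γ(X, U)) (hle : V ≤ U)
    (e : V = X.basicOpen f) (d d' : Γ(X, V) →+ Γ(X, V)) (hd : ∀ s t, d (s * t) = s * d t + t * d s)
    (hd' : ∀ s t, d' (s * t) = s * d' t + t * d' s) (h : ∀ s, d (res hle s) = d' (res hle s)) : d = d' := by
  subst e
  have := hU.isLocalization_basicOpen f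
  refine AddMonoidHom.ext fun y => ?_
  obtain ⟨⟨a, b⟩, hab⟩ := IsLocalization.surj (Submonoid.powers f) y
  have hab' : y * res hle (b : Γ(X, U)) = res hle a := hab
  have h1 := congrArg d hab'
  have h2 := congrArg d' hab'
  rw [hd, h, h] at h1
  rw [hd'] at h2
  have hu : IsUnit (res hle (b : Γ(X, U))) := IsLocalization.map_units Γ(X, X.basicOpen f) b
  exact hu.mul_left_cancel (add_left_cancel (h1.trans h2.symm))

variable {x}

/-- a family is determined by its value on an affine containing all its members -/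
theorem LocFam.ext {U₀ : X.Opens} (hU₀ : IsAffineOpen U₀) {F G : LocFam x U₀}
    (h : ∀ s, F.δ ⟨U₀, hU₀⟩ le_rfl s = G.δ ⟨U₀, hU₀⟩ le_rfl s) (W : AffineZariskiSite X) (hW : W.toOpens ≤ U₀)
    (s : Γ(X, W.toOpens)) : F.δ W hW s = G.δ W hW s := by
  let W₀ : AffineZariskiSite X := ⟨U₀, hU₀⟩
  refine eq_of_res_cover (fun V : {V : AffineZariskiSite X // V ≤ W ∧ V ≤ W₀} => V.1.toOpens)
    (fun V => AffineZariskiSite.toOpens_mono V.2.1) (fun p hp => ?_) _ _ fun V => ?_
  · obtain ⟨f, g, hfg, hpf⟩ := exists_basicOpen_le_affine_inter W.2 hU₀ p ⟨hp, hW hp⟩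
    exact Opens.mem_iSup.2 ⟨⟨W.basicOpen f, W.basicOpen_le f, ⟨g, hfg.symm⟩⟩, hpf⟩
  · obtain ⟨g, hg⟩ := V.2.2
    rw [← F.natural V.2.1, ← G.natural V.2.1]
    refine DFunLike.congr_fun (eq_of_basicOpen hU₀ g (AffineZariskiSite.toOpens_mono V.2.2) hg.symm _ _
      (F.mul _ _) (G.mul _ _) fun t => ?_) _
    have e := congrArg (res (AffineZariskiSite.toOpens_mono V.2.2)) (h t)
    rw [← F.natural V.2.2 le_rfl, ← G.natural V.2.2 le_rfl] at e
    exact e

variable (x) [QuasiSeparated x]

/-- the sheaf of derivations -/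
abbrev TX : X.Modules := RefHull.homSh (Omega.sheaf x) (Coh.structureModule X)

/-- value of a section of `TX` on a function -/
def ev {U W : X.Opens} (h : W ≤ U) (g : Γ(TX x, U)) : Γ(X, W) →+ Γ(X, W) :=
  AddMonoidHom.mk' (fun s => OmegaSh.fnSect X W (RefX.app h g ((OmegaSh.dOmega x).app W s))) fun s t => by
    rw [map_add, RefX.app_add, map_add]

theorem ev_apply {U W : X.Opens} (h : W ≤ U) (g : Γ(TX x, U)) (s : Γ(X, W)) :
    ev x h g s = OmegaSh.fnSect X W (RefX.app h g ((OmegaSh.dOmega x).app W s)) := rfl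

theorem ev_mul {U W : X.Opens} (h : W ≤ U) (g : Γ(TX x, U)) (s t : Γ(X, W)) :
    ev x h g (s * t) = s * ev x h g t + t * ev x h g s := by
  rw [ev_apply, Synt29.OmegaStalk.app_mul, RefX.app_add, RefX.app_smul, RefX.app_smul]
  rfl

theorem ev_const {U W : X.Opens} (h : W ≤ U) (g : Γ(TX x, U)) (c : k) : ev x h g (cst x W c) = 0 := by
  have h0 : (OmegaSh.dOmega x).app W (cst x W c) = 0 :=
    OmAff.dSect_appLE x ⊤ W le_top _
  rw [ev_apply, h0]
  have h1 := RefX.app_add h g (0 : Γ(Omega.sheaf x, W)) 0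
  rw [add_zero, left_eq_add] at h1
  rw [h1]
  rfl

theorem ev_natural {U W W' : X.Opens} (h : W ≤ U) (h' : W' ≤ W) (g : Γ(TX x, U)) (s : Γ(X, W)) :
    ev x (h'.trans h) g (res h' s) = res h' (ev x h g s) := by
  rw [ev_apply, show (OmegaSh.dOmega x).app W' (res h' s) =
    AModX.res (Omega.sheaf x) h' ((OmegaSh.dOmega x).app W s) from
      (OmegaSh.dOmega x).d_map (homOfLE h').op s]
  exact congrArg (OmegaSh.fnSect X W') (RefX.res_app h h' g ((OmegaSh.dOmega x).app W s)).symm

theorem ev_res {U U' W : X.Opens} (h : U' ≤ U) (h' : W ≤ U') (g : Γ(TX x, U)) (s : Γ(X, W)) :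
    ev x h' (AModX.res (TX x) h g) s = ev x (h'.trans h) g s := by
  have h1 : ∀ m : Γ(Omega.sheaf x, W), RefX.app h' (AModX.res (TX x) h g) m = RefX.app (h'.trans h) g m :=
    fun m => ZClosLib.section_ext _ _ _ fun y hy => by
      rw [RefX.germ_app, RefX.germ_app, RefX.res_val]
  exact congrArg (OmegaSh.fnSect X W) (h1 _)

theorem ev_add {U W : X.Opens} (h : W ≤ U) (g g' : Γ(TX x, U)) (s : Γ(X, W)) :
    ev x h (g + g') s = ev x h g s + ev x h g' s := by
  rw [ev_apply, ev_apply, ev_apply, ← map_add]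
  refine congrArg (OmegaSh.fnSect X W) (ZClosLib.section_ext _ _ _ fun y hy => ?_)
  rw [map_add, RefX.germ_app, RefX.germ_app, RefX.germ_app]
  rfl

theorem ev_smul {U W : X.Opens} (h : W ≤ U) (r : Γ(X, U)) (g : Γ(TX x, U)) (s : Γ(X, W)) :
    ev x h (r • g) s = res h r * ev x h g s := by
  have h1 : ∀ m : Γ(Omega.sheaf x, W), RefX.app h (r • g) m = AModX.resR h r • RefX.app h g m :=
    fun m => ZClosLib.section_ext _ _ _ fun y hy => by
      rw [RefX.germ_app, QCoh.germ_smul', RefX.germ_app, RefX.smul_val, RefX.germ_resR]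
      rfl
  exact congrArg (OmegaSh.fnSect X W) (h1 _)

/-- the family of derivations of a section -/
def famOfSect {U₀ : X.Opens} (g : Γ(TX x, U₀)) : LocFam x U₀ where
  δ W h := ev x h g
  mul W h s t := ev_mul x h g s t
  const W h c := ev_const x h g c
  natural hle h s := ev_natural x h (AffineZariskiSite.toOpens_mono hle) g s


theorem ev_injective {U : X.Opens} (hU : IsAffineOpen U) (g g' : Γ(TX x, U))
    (h : ∀ s, ev x le_rfl g s = ev x le_rfl g' s) : g = g' := by
  let _ := DRHyp.kAlg x U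
  have hq : Coh.IsQCoh (Omega.sheaf x) := OmegaUniv.isQCoh_omega x
  refine RefX.toLin_injective hq hU g g' fun m => ?_
  obtain ⟨z, rfl⟩ := (DRHyp.omegaEquiv x hU).surjective m
  have hz : z ∈ Submodule.span Γ(X, U) (Set.range (KaehlerDifferential.D k Γ(X, U))) := by
    rw [KaehlerDifferential.span_range_derivation]; trivial
  induction hz using Submodule.span_induction with
  | mem y hy =>
      obtain ⟨b, rfl⟩ := hy
      rw [show DRHyp.omegaEquiv x hU (KaehlerDifferential.D k Γ(X, U) b) = (OmegaSh.dOmega x).app U b from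
        DRHyp.toOmega_D x U b]
      exact h b
  | zero => rw [map_zero]; exact (map_zero (RefX.toLin g)).trans (map_zero (RefX.toLin g')).symm
  | add y y' _ _ a b => rw [map_add, RefX.app_add, RefX.app_add, a, b]
  | smul r y _ a => rw [map_smul, RefX.app_smul, RefX.app_smul, a]

theorem exists_ev {U : X.Opens} (hU : IsAffineOpen U) (d : Γ(X, U) →+ Γ(X, U))
    (hd : ∀ s t, d (s * t) = s * d t + t * d s) (hc : ∀ c, d (cst x U c) = 0) :
    ∃ g : Γ(TX x, U), ∀ s, ev x le_rfl g s = d s := by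
  let _ : Algebra k Γ(X, U) := DRHyp.kAlg x U
  have hq : Coh.IsQCoh (Omega.sheaf x) := OmegaUniv.isQCoh_omega x
  let D : Derivation k Γ(X, U) Γ(X, U) := Derivation.mk'
    { toFun := d
      map_add' := map_add d
      map_smul' := fun c s => by
        change d (c • s) = c • d s
        rw [Algebra.smul_def, Algebra.smul_def, hd,
          show d (algebraMap k Γ(X, U) c) = 0 from hc c, mul_zero, add_zero] }
    fun a b => hd a b
  let θ : Γ(Omega.sheaf x, U) →ₗ[Γ(X, U)] Γ(X, U) :=
    D.liftKaehlerDifferential.comp (DRHyp.omegaEquiv x hU).symm.toLinearMap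
  have hθ : ∀ s, θ ((OmegaSh.dOmega x).app U s) = d s := fun s => by
    refine (congrArg D.liftKaehlerDifferential ((DRHyp.omegaEquiv x hU).symm_apply_eq.2 ?_)).trans
      (D.liftKaehlerDifferential_comp_D s)
    exact (DRHyp.toOmega_D x U s).symm
  let θ' : letI := RefX.resModule (Coh.structureModule X) (le_refl U)
      Γ(Omega.sheaf x, U) →ₗ[Γ(X, U)] Γ(Coh.structureModule X, U) :=
    letI := RefX.resModule (Coh.structureModule X) (le_refl U)
    { toFun := fun m => OmegaSh.strSect X U (θ m)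
      map_add' := fun a b => by rw [map_add, map_add]
      map_smul' := fun r m => by
        rw [map_smul]
        change r * θ m = (AModX.resR le_rfl r : Γ(X, U)) * θ m
        rw [show AModX.resR (le_refl U) r = r from res_self _ r] }
  refine ⟨RefX.ofLin hq hU le_rfl θ', fun s => ?_⟩
  rw [← hθ, ev_apply]
  refine (congrArg (OmegaSh.fnSect X U)
    (ZClosLib.section_ext (Coh.structureModule X) _ (OmegaSh.strSect X U (θ ((OmegaSh.dOmega x).app U s)))
      fun y hy => ?_)).trans rfl
  rw [RefX.germ_app]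
  exact RefX.ofLin_germ hq hU le_rfl θ' hy _

/-- every family on the affines below an affine comes from a section -/
theorem LocFam.exists_sect {U₀ : X.Opens} (hU₀ : IsAffineOpen U₀) (F : LocFam x U₀) :
    ∃ g : Γ(TX x, U₀), ∀ (W : AffineZariskiSite X) (h : W.toOpens ≤ U₀) s, ev x h g s = F.δ W h s := by
  obtain ⟨g, hg⟩ := exists_ev x hU₀ (F.δ ⟨U₀, hU₀⟩ le_rfl) (F.mul ⟨U₀, hU₀⟩ le_rfl)
    (F.const ⟨U₀, hU₀⟩ le_rfl)
  exact ⟨g, LocFam.ext hU₀ (F := famOfSect x g) (G := F) hg⟩

end Groth.Agent.DefSch76
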