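import Groth.Agent.DefSch76.AutSec
import Groth.Agent.DefSch76.DerSheaf
import Groth.Agent.DefSch76.FlatIdeal
import Mathlib.RingTheory.Nakayama
import Mathlib.RingTheory.Artinian.Ring

/-! Without derivations of the structure sheaf, deformations have no automorphisms. -/

universe u

open CategoryTheory CategoryTheory.Limits AlgebraicGeometry Opposite ArtFun

noncomputable section

namespace Groth.Agent.DefSch76

open Scheme (AffineZariskiSite)
open Groth.Agent.DefGlueLib

variable {Λ k : Type u} [CommRing Λ] [Field k] [Algebra Λ k]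
variable {X : Scheme.{u}} {x : X ⟶ Art.specPt k} {C : Art Λ k}

theorem exists_step (I : Ideal C) (hI : I ≠ ⊥) :
    ∃ (J : Ideal C) (j : C), J < I ∧ j ∈ I ∧ j ∉ J ∧ I ≤ J ⊔ Ideal.span {j} ∧
      IsLocalRing.maximalIdeal C * I ≤ J := by
  obtain ⟨J, hJ, hmax⟩ := set_has_maximal_iff_noetherian.2 (inferInstanceAs (IsNoetherianRing C))
    {J : Ideal C | J < I} ⟨⊥, bot_lt_iff_ne_bot.2 hI⟩
  change J < I at hJ
  obtain ⟨j, hjI, hjJ⟩ := SetLike.exists_of_lt hJ
  refine ⟨J, j, hJ, hjI, hjJ, ?_, ?_⟩
  · by_contra hne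
    have hlt : J ⊔ Ideal.span {j} < I := lt_of_le_of_ne
      (sup_le hJ.le ((Ideal.span_singleton_le_iff_mem _).2 hjI)) fun he => hne he.ge
    exact hmax _ hlt (lt_of_le_of_ne le_sup_left fun he =>
      hjJ (he.symm ▸ Ideal.mem_sup_right (Ideal.mem_span_singleton_self j)))
  · by_contra hne
    have hle : J ⊔ IsLocalRing.maximalIdeal C • I ≤ I := sup_le hJ.le Submodule.smul_le_right
    have heq : J ⊔ IsLocalRing.maximalIdeal C • I = I := by
      by_contra hne'
      refine hmax _ (lt_of_le_of_ne hle hne') (lt_of_le_of_ne le_sup_left fun he => hne ?_)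
      rw [← Ideal.smul_eq_mul]
      exact he ▸ le_sup_right
    exact hJ.not_ge (Submodule.le_of_le_smul_of_le_jacobson_bot (IsNoetherian.noetherian I)
      (IsLocalRing.jacobson_eq_maximalIdeal ⊥ bot_ne_top).ge heq.ge)

/-- the family on the affine pieces read off an automorphism congruent to the identity modulo `I R` -/
theorem sub_mem_map_of_step {ξ : DefSch X x C} (e : ξ.Iso ξ) (hD : ∀ D : DerFam x, ∀ U s, D.δ U s = 0)
    {I J : Ideal C} {j : C} (hm : I ≤ IsLocalRing.maximalIdeal C) (hj : j ∉ J) (hjI : j ∈ I)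
    (hI : I ≤ J ⊔ Ideal.span {j}) (hmI : IsLocalRing.maximalIdeal C * I ≤ J)
    (h : ∀ (U : AffineZariskiSite X) r, phi e U r - r ∈ I.map ((ofSch ξ).a (op U)))
    (U : AffineZariskiSite X) (r : (ofSch ξ).R.obj (op U)) :
    phi e U r - r ∈ J.map ((ofSch ξ).a (op U)) := by
  let D := ofSch ξ
  choose co hco using fun (U : AffineZariskiSite X) (r : D.R.obj (op U)) => exists_coeff hI (h U r)
  have hmR : ∀ U (r : D.R.obj (op U)), D.qU U r = 0 →
      r ∈ (IsLocalRing.maximalIdeal C).map (D.a (op U)) := fun U r hr => (D.isDef (op U)).ker_le hr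
  have hphi0 : ∀ U (r : D.R.obj (op U)), D.qU U r = 0 → phi e U r - r ∈ J.map (D.a (op U)) := by
    intro U r hr
    refine Submodule.span_induction (p := fun t _ => phi e U t - t ∈ J.map (D.a (op U))) ?_ (by simp)
      (fun s t _ _ hs ht => ?_) (fun g t ht' ht => ?_) (hmR U r hr)
    · rintro _ ⟨c, _, rfl⟩
      simp [(phi_spec e U).1 c, D]
    · convert Ideal.add_mem _ hs ht using 1
      rw [map_add]; ring
    · have e0 : (phi e U g - g) * t ∈ J.map (D.a (op U)) := by
        refine Ideal.map_mono hmI ?_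
        rw [Ideal.map_mul, mul_comm (phi e U g - g)]
        exact Ideal.mul_mem_mul ht' (h U g)
      convert Ideal.add_mem _ (Ideal.mul_mem_left _ (phi e U g) ht) e0 using 1
      rw [smul_eq_mul, map_mul]
      ring
  have hsurj := fun U : AffineZariskiSite X => (D.isDef (op U)).surjective
  choose l hl using hsurj
  -- the value does not depend on the lift nor on the coefficient
  have huniq : ∀ U (r s : D.R.obj (op U)), phi e U r - r - D.a (op U) j * s ∈ J.map (D.a (op U)) →
      D.qU U (co U (l U (D.qU U r))) = D.qU U s := by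
    intro U r s hs
    refine coeff_unique (D.isDef (op U)) hj (hco U _) ?_
    have h2 := hphi0 U (l U (D.qU U r) - r) ((map_sub _ _ _).trans (sub_eq_zero.2 (hl U _)))
    rw [map_sub] at h2
    convert Ideal.add_mem _ h2 hs using 1
    ring
  let δf : ∀ U : AffineZariskiSite X, Γ(X, U.toOpens) → Γ(X, U.toOpens) := fun U s => D.qU U (co U (l U s))
  have hδ : ∀ U (r s : D.R.obj (op U)), phi e U r - r - D.a (op U) j * s ∈ J.map (D.a (op U)) →
      δf U (D.qU U r) = D.qU U s := huniq
  have hpre : ∀ U (s : Γ(X, U.toOpens)), ∃ r, D.qU U r = s ∧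
      phi e U r - r - D.a (op U) j * co U r ∈ J.map (D.a (op U)) ∧ δf U s = D.qU U (co U r) := by
    intro U s
    refine ⟨l U s, hl U s, hco U _, rfl⟩
  let F : DerFam x :=
    { δ := fun U => AddMonoidHom.mk' (δf U) fun s t => by
        obtain ⟨r, rfl, hr, er⟩ := hpre U s
        obtain ⟨r', rfl, hr', er'⟩ := hpre U t
        rw [er, er', ← map_add, ← map_add]
        refine hδ U _ _ ?_
        convert Ideal.add_mem _ hr hr' using 1
        rw [map_add]; ring
      mul := fun U s t => by
        obtain ⟨r, rfl, hr, er⟩ := hpre U s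
        obtain ⟨r', rfl, hr', er'⟩ := hpre U t
        change δf U _ = _ * δf U _ + _ * δf U _
        rw [er, er', ← map_mul, ← map_mul, ← map_mul, ← map_add]
        refine hδ U _ _ ?_
        have h3 : (phi e U r - r) * (phi e U r' - r') ∈ J.map (D.a (op U)) := by
          refine Ideal.map_mono hmI ?_
          rw [Ideal.map_mul]
          exact Ideal.mul_mem_mul (Ideal.map_mono hm (h U r)) (h U r')
        convert Ideal.add_mem _ (Ideal.add_mem _ (Ideal.mul_mem_left _ r' hr) (Ideal.mul_mem_left _ r hr')) h3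
          using 1
        rw [map_mul]; ring
      const := fun U c => by
        obtain ⟨c', rfl⟩ := C.res_surjective c
        change δf U _ = 0
        have hc : D.qU U (D.a (op U) c') = str x U (C.res c') := (D.isDef (op U)).comm c'
        rw [← hc, ← map_zero (D.qU U).hom]
        refine hδ U _ _ ?_
        rw [show phi e U (D.a (op U) c') = D.a (op U) c' from (phi_spec e U).1 c']
        simp
      natural := fun {V U} hVU s => by
        obtain ⟨r, rfl, hr, er⟩ := hpre U s
        change δf V _ = res _ (δf U _)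
        rw [er]
        have e1 : ∀ t, res (AffineZariskiSite.toOpens_mono hVU) (D.qU U t) =
            D.qU V (D.R.map (homOfLE hVU).op t) := fun t =>
          (ConcreteCategory.congr_hom (D.qU_map (homOfLE hVU)) t).symm
        rw [e1, e1]
        refine hδ V _ _ ?_
        have h4 := Ideal.mem_map_of_mem (D.R.map (homOfLE hVU).op).hom hr
        rw [Ideal.map_map, map_sub, map_sub, map_mul] at h4
        rw [phi_natural e (homOfLE hVU)]
        have ea : (D.R.map (homOfLE hVU).op).hom.comp (D.a (op U)) = D.a (op V) :=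
          RingHom.ext fun c => D.a_map (homOfLE hVU).op c
        rw [ea, show (D.R.map (homOfLE hVU).op).hom (D.a (op U) j) = D.a (op V) j from
          D.a_map (homOfLE hVU).op j] at h4
        exact h4 }
  obtain ⟨r', hr1, hr', er'⟩ := hpre U (D.qU U r)
  have h5 : D.qU U (co U r) = 0 := (hδ U r _ (hco U r)).symm.trans (hD F U _)
  have h6 : D.a (op U) j * co U r ∈ J.map (D.a (op U)) := by
    refine Ideal.map_mono hmI ?_
    rw [Ideal.map_mul, mul_comm (D.a (op U) j)]
    exact Ideal.mul_mem_mul (hmR U _ h5) (Ideal.mem_map_of_mem _ hjI)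
  convert Ideal.add_mem _ (hco U r) h6 using 1
  ring

theorem eq_id_of_derFam {ξ : DefSch X x C} (hD : ∀ D : DerFam x, ∀ U s, D.δ U s = 0) (e : ξ.Iso ξ) :
    e.iso.hom = 𝟙 ξ.total := by
  refine eq_id_of_phi fun U => ?_
  let S : Set (Ideal C) := {I | I ≤ IsLocalRing.maximalIdeal C ∧
    ∀ (U : AffineZariskiSite X) r, phi e U r - r ∈ I.map ((ofSch ξ).a (op U))}
  have hS : IsLocalRing.maximalIdeal C ∈ S := ⟨le_rfl, fun U r => ((ofSch ξ).isDef (op U)).ker_le
    ((map_sub ((ofSch ξ).qU U).hom _ _).trans (sub_eq_zero.2 ((phi_spec e U).2 r)))⟩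
  obtain ⟨I, ⟨hIm, hI⟩, hmin⟩ := IsArtinian.set_has_minimal S ⟨_, hS⟩
  have hbot : I = ⊥ := by
    by_contra hne
    obtain ⟨J, j, hJI, hjI, hj, hIJ, hmI⟩ := exists_step I hne
    exact hmin J ⟨hJI.le.trans hIm, sub_mem_map_of_step e hD hIm hj hjI hIJ hmI hI⟩ hJI
  refine CommRingCat.hom_ext (RingHom.ext fun r => ?_)
  have h := hI U r
  rw [hbot, Ideal.map_bot, Ideal.mem_bot, sub_eq_zero] at h
  exact h

end Groth.Agent.DefSch76
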