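import Groth.Agent.DefGlueLib.Schless

/-! The sections of a glued deformation are the algebras it was glued from. -/

universe u

set_option backward.isDefEq.respectTransparency false
set_option backward.isDefEq.respectTransparency.types false

open CategoryTheory CategoryTheory.Limits AlgebraicGeometry Opposite ArtFun

noncomputable section

namespace Groth.Agent.DefSch76

open Scheme (AffineZariskiSite)
open Groth.Agent.DefGlueLib

variable {Λ k : Type u} [CommRing Λ] [Field k] [Algebra Λ k]
variable {X : Scheme.{u}} {x : X ⟶ Art.specPt k} {A B C : Art Λ k} (D : PDef x C)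

/-- composition -/
def phComp {g : A ⟶ B} {g' : B ⟶ C} {g'' : A ⟶ C} {D₁ : PDef x A} {D₂ : PDef x B} {D₃ : PDef x C}
    (φ : PHom g D₁ D₂) (ψ : PHom g' D₂ D₃) (h : g ≫ g' = g'') : PHom g'' D₁ D₃ where
  app := φ.app ≫ ψ.app
  comm U c := by
    subst h
    exact (congrArg _ (φ.comm U c)).trans (ψ.comm U (g c))
  q_app := by rw [Category.assoc, ψ.q_app, φ.q_app]

theorem range_ι (U : AffineZariskiSite X) :
    Set.range (colimit.ι D.diagram U) = (imOpen D.toDefSch U.toOpens : Set D.toDefSch.total) := by
  refine Set.ext fun z => ⟨fun hz => ?_, ?_⟩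
  · obtain ⟨p, rfl⟩ := (D.toDefSch).i.surjective z
    exact ⟨p, (D.incl_mem_range_iff U p).1 hz, rfl⟩
  · rintro ⟨p, hp, rfl⟩
    exact (D.incl_mem_range_iff U p).2 hp

theorem exists_unit (U : AffineZariskiSite X) :
    ∃ ψ : (ofSch D.toDefSch).R.obj (op U) ⟶ D.R.obj (op U), Function.Bijective ψ ∧
      Spec.map ψ ≫ (isAffineOpen_imOpen D.toDefSch U).fromSpec = colimit.ι D.diagram U := by
  let j : Spec ((ofSch D.toDefSch).R.obj (op U)) ⟶ D.toDefSch.total := (isAffineOpen_imOpen D.toDefSch U).fromSpec
  have hr : Set.range (colimit.ι D.diagram U) = Set.range j :=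
    (range_ι D U).trans (IsAffineOpen.range_fromSpec _).symm
  let m := IsOpenImmersion.lift j (colimit.ι D.diagram U) hr.le
  have : IsIso m := by
    have e1 : m ≫ j = colimit.ι D.diagram U := IsOpenImmersion.lift_fac _ _ _
    refine ⟨IsOpenImmersion.lift (colimit.ι D.diagram U) j hr.ge, ?_, ?_⟩
    · rw [← cancel_mono (colimit.ι D.diagram U), Category.assoc, IsOpenImmersion.lift_fac, e1, Category.id_comp]
    · rw [← cancel_mono j, Category.assoc, e1, IsOpenImmersion.lift_fac, Category.id_comp]
  refine ⟨Spec.preimage m, ?_, (congrArg (· ≫ j) (Spec.map_preimage m)).trans (IsOpenImmersion.lift_fac _ _ _)⟩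
  have : IsIso (Spec.map (Spec.preimage m)) := by rw [Spec.map_preimage]; infer_instance
  have : IsIso (Scheme.Spec.map (Spec.preimage m).op) := inferInstanceAs (IsIso (Spec.map (Spec.preimage m)))
  have : IsIso (Spec.preimage m).op := Spec.fullyFaithful.isIso_of_isIso_map _
  have : IsIso (Spec.preimage m) := isIso_of_op _
  exact ConcreteCategory.bijective_of_isIso (Spec.preimage m)

/-- the comparison map on one piece -/
def unitApp (U : AffineZariskiSite X) : (ofSch D.toDefSch).R.obj (op U) ⟶ D.R.obj (op U) :=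
  (exists_unit D U).choose

theorem unitApp_bijective (U : AffineZariskiSite X) : Function.Bijective (unitApp D U) :=
  (exists_unit D U).choose_spec.1

theorem SpecMap_unitApp (U : AffineZariskiSite X) :
    Spec.map (unitApp D U) ≫ (isAffineOpen_imOpen D.toDefSch U).fromSpec = colimit.ι D.diagram U :=
  (exists_unit D U).choose_spec.2

theorem unitApp_natural {V U : AffineZariskiSite X} (h : V ⟶ U) :
    (ofSch D.toDefSch).R.map h.op ≫ unitApp D V = unitApp D U ≫ D.R.map h.op := by
  apply Spec.map_injective
  rw [← cancel_mono (isAffineOpen_imOpen D.toDefSch U).fromSpec, Spec.map_comp, Spec.map_comp, Category.assoc,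
    Category.assoc, SpecMap_unitApp, show Spec.map ((ofSch D.toDefSch).R.map h.op) ≫
      (isAffineOpen_imOpen D.toDefSch U).fromSpec = (isAffineOpen_imOpen D.toDefSch V).fromSpec from
    IsAffineOpen.map_fromSpec _ (isAffineOpen_imOpen D.toDefSch V) _, SpecMap_unitApp]
  exact (colimit.w D.diagram h).symm

theorem unitApp_a (U : AffineZariskiSite X) (c : C) :
    unitApp D U ((ofSch D.toDefSch).a (op U) c) = D.a (op U) c := by
  have : CommRingCat.ofHom ((ofSch D.toDefSch).a (op U)) ≫ unitApp D U = CommRingCat.ofHom (D.a (op U)) := by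
    apply Spec.map_injective
    rw [Spec.map_comp]
    refine (congrArg (Spec.map (unitApp D U) ≫ ·) (SpecMap_secA D.toDefSch (isAffineOpen_imOpen D.toDefSch U))).trans ?_
    rw [← Category.assoc, SpecMap_unitApp]
    exact D.ι_str' U
  exact ConcreteCategory.congr_hom this c

theorem unitApp_q (U : AffineZariskiSite X) : unitApp D U ≫ D.qU U = (ofSch D.toDefSch).qU U := by
  apply Spec.map_injective
  have hm : IsIso U.toOpens.toSpecΓ := by rw [← U.2.isoSpec_hom]; infer_instance
  rw [← cancel_mono (isAffineOpen_imOpen D.toDefSch U).fromSpec, ← cancel_epi U.toOpens.toSpecΓ, Spec.map_comp,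
    Category.assoc, SpecMap_unitApp, ← Category.assoc]
  change D.θ U ≫ _ = _
  rw [← D.ι_incl U]
  change _ = U.toOpens.toSpecΓ ≫ Spec.map (D.toDefSch.i.appLE _ _ _) ≫ _
  rw [IsAffineOpen.SpecMap_appLE_fromSpec D.toDefSch.i (isAffineOpen_imOpen D.toDefSch U) U.2,
    ← IsAffineOpen.isoSpec_hom U.2, IsAffineOpen.isoSpec_hom_fromSpec_assoc]
  rfl

/-- comparison of sections with the algebras -/
def unitHom : PHom (𝟙 C) (ofSch D.toDefSch) D where
  app := { app := fun U => unitApp D U.unop, naturality := fun U V f => unitApp_natural D f.unop }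
  comm U c := unitApp_a D U.unop c
  q_app := NatTrans.ext (funext fun U => unitApp_q D U.unop)

/-- the inverse comparison -/
def unitInv : PHom (𝟙 C) D (ofSch D.toDefSch) where
  app :=
    { app := fun U =>
        CommRingCat.ofHom ((RingEquiv.ofBijective (unitApp D U.unop).hom (unitApp_bijective D U.unop)).symm.toRingHom)
      naturality := fun U V f => CommRingCat.hom_ext (RingHom.ext fun r => (unitApp_bijective D V.unop).1 (by
        obtain ⟨s, rfl⟩ := (unitApp_bijective D U.unop).2 r
        refine ((RingEquiv.ofBijective (unitApp D V.unop).hom (unitApp_bijective D V.unop)).apply_symm_apply _).trans ?_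
        refine Eq.trans ?_ (ConcreteCategory.congr_hom (unitApp_natural D f.unop) _).symm
        refine congrArg (D.R.map f).hom (congrArg (unitApp D U.unop).hom ?_)
        exact ((RingEquiv.ofBijective (unitApp D U.unop).hom (unitApp_bijective D U.unop)).symm_apply_apply s).symm)) }
  comm U c := (unitApp_bijective D U.unop).1 (by
    refine ((RingEquiv.ofBijective (unitApp D U.unop).hom (unitApp_bijective D U.unop)).apply_symm_apply _).trans ?_
    exact (unitApp_a D U.unop c).symm)
  q_app := NatTrans.ext (funext fun U => CommRingCat.hom_ext (RingHom.ext fun r => by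
    refine (ConcreteCategory.congr_hom (unitApp_q D U.unop) _).symm.trans ?_
    exact congrArg (D.q.app U).hom
      ((RingEquiv.ofBijective (unitApp D U.unop).hom (unitApp_bijective D U.unop)).apply_symm_apply r)))

/-- Glued deformations are isomorphic iff the families are. -/
theorem nonempty_iso_iff (D' : PDef x C) :
    Nonempty (D'.toDefSch.Iso D.toDefSch) ↔ Nonempty (PHom (𝟙 C) D D') :=
  ⟨fun ⟨e⟩ => ⟨phComp (phComp (unitInv D) (Ov.ofIso e).sec (Category.id_comp _)) (unitHom D') (Category.id_comp _)⟩,
    fun ⟨φ⟩ => ⟨Ov.toIso φ.glue⟩⟩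

/-- The class of a glued family along a morphism. -/
theorem map_cl_toDefSch {g : A ⟶ B} {D₁ : PDef x A} {D₂ : PDef x B} (φ : PHom g D₁ D₂) :
    (defFunctor X x).map g D₁.toDefSch.cl = D₂.toDefSch.cl :=
  cl_eq_iff.2 ⟨φ.glue.toBC.symm⟩

end Groth.Agent.DefSch76
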